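import Cfsg.Agent.Lib.ThreeTransp.U6Recog.Whole

/-!
# The hypotheses from a quasisimple centraliser
-/

set_option autoImplicit false

namespace CfsgLib.U6Recog

open Cfsg

/-- The hypotheses from those of the statements. -/
theorem rec_of_quasisimple {G : Type*} [Group G] (d : G) (hd : orderOf d = 2)
    (hq : Cfsg.IsQuasisimple ↥(Subgroup.centralizer ({d} : Set G)))
    [hzn : ((Subgroup.zpowers d).subgroupOf (Subgroup.centralizer ({d} : Set G))).Normal]
    (K : Type) [Field K] [Fintype K] (hK : Fintype.card K = 4)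
    (e : ↥(Subgroup.centralizer ({d} : Set G)) ⧸
      (Subgroup.zpowers d).subgroupOf (Subgroup.centralizer ({d} : Set G)) ≃* Cfsg.PSU 6 K 2)
    (hnwc : ∃ g : G, g * d * g⁻¹ ∈ Subgroup.centralizer ({d} : Set G) ∧ g * d * g⁻¹ ≠ d) :
    Nonempty (Rec d K) := by
  have hdC : d ∈ Subgroup.centralizer ({d} : Set G) := Subgroup.mem_centralizer_singleton_iff.2 rfl
  set N := (Subgroup.zpowers d).subgroupOf (Subgroup.centralizer ({d} : Set G)) with hN
  let π : ↥(Subgroup.centralizer ({d} : Set G)) →* Cfsg.PSU 6 K 2 := e.toMonoidHom.comp (QuotientGroup.mk' N)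
  have hπ : ∀ h : ↥(Subgroup.centralizer ({d} : Set G)), π h = 1 ↔ (h : G) ∈ Subgroup.zpowers d := fun h => by
    show e (QuotientGroup.mk' N h) = 1 ↔ _
    rw [map_eq_one_iff e e.injective, QuotientGroup.mk'_apply, QuotientGroup.eq_one_iff, hN,
      Subgroup.mem_subgroupOf]
  have W : CfsgLib.U6.DCover π ⟨d, hdC⟩ := by
    refine ⟨e.surjective.comp (QuotientGroup.mk'_surjective _), fun h hh => ?_,
      (hπ _).2 (Subgroup.mem_zpowers d), fun h => Subtype.ext ?_, Subtype.ext ?_⟩
    · obtain ⟨n, hn⟩ := (hπ h).1 hh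
      change d ^ n = (h : G) at hn
      rw [← zpow_mod_orderOf, hd] at hn
      rcases Int.emod_two_eq_zero_or_one n with h0 | h0 <;> simp [h0] at hn
      · exact Or.inl (Subtype.ext hn.symm)
      · exact Or.inr (Subtype.ext hn.symm)
    · exact (Subgroup.mem_centralizer_singleton_iff.1 h.2).symm
    · show d * d = 1
      rw [← pow_two, ← hd, pow_orderOf_eq_one]
  exact ⟨⟨by rw [hK]; norm_num, hd, π, W, hq.1.commutator_eq_top, hnwc⟩⟩

end CfsgLib.U6Recog
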