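import Cfsg.Agent.Lib.ThreeTransp.U6Recog.Minus6
import Cfsg.Agent.Lib.ThreeTransp.M22Y332.Iso
import Cfsg.Agent.Lib.ThreeTransp.M22OuterInvol

/-!
# The core conditions imply being of type `M(22)`, reflection condition included
-/

set_option autoImplicit false

namespace CfsgLib.M22

open CfsgLib.ThreeTransp

variable {G : Type*} [Group G] [Finite G] {D : Set G}

/-- The core conditions imply being of type `M(22)`. -/
theorem Setup.isOfType (S : Setup D) : Cfsg.IsOfTypeM22 G D := by
  obtain ⟨e, he⟩ := exists_fi22_iso S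
  obtain ⟨d, hd, c, hc, hdc, hL⟩ := Fi22P.Minus6.exists_pair e
  rw [he] at hd hc hL
  obtain ⟨F, iF, iF', hF, hM⟩ := S.exists_models
  obtain ⟨A⟩ := hM d hd
  have hker : A.ψ.ker = Subgroup.center ↥(Subgroup.closure (link D d)) := by
    ext x
    exact A.ker x
  refine ⟨S.type.1, d, hd, c, hc, hdc, ⟨F, iF, iF', by rw [hF]; norm_num,
    ⟨(QuotientGroup.quotientMulEquivOfEq hker.symm).trans
      (QuotientGroup.quotientKerEquivOfSurjective A.ψ A.surj)⟩⟩, 1, one_ne_zero, hL⟩

end CfsgLib.M22
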