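import Cfsg.Agent.Lib.ThreeTransp.U6Recog.Pair
import Cfsg.Agent.Lib.ThreeTransp.M22Invol
import Cfsg.Agent.Lib.ThreeTransp.M22Base
import Cfsg.Agent.Lib.ThreeTransp.M23Model

/-!
# The component is the whole class

Members of different components have product of odd order; so the product of a commuting pair and a member `y`
of another component has even order, which gives the product of a triple commuting with `y` and so a second
representation of that product by a triple containing an arbitrary member commuting with the first.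
-/

set_option autoImplicit false

namespace CfsgLib.U6Recog

open Cfsg
open CfsgLib.ThreeTransp (link)

variable {G : Type*} [Group G]
variable {F : Type} [Field F] [Fintype F]

theorem semiconj_pow {x y : G} (hx : x * x = 1) (hy : y * y = 1) (n : ℕ) :
    x * (x * y) ^ n = ((x * y) ^ n)⁻¹ * x := by
  have h : SemiconjBy x (x * y) (x * y)⁻¹ := by
    show x * (x * y) = (x * y)⁻¹ * x
    rw [← mul_assoc, hx, one_mul, mul_inv_rev, inv_eq_of_mul_eq_one_right hx, inv_eq_of_mul_eq_one_right hy,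
      mul_assoc, hx, mul_one]
  have := h.pow_right n
  rwa [inv_pow] at this

/-- Two involutions with product of odd order are conjugate under a power of the product. -/
theorem conj_of_odd {x y : G} (hx : x * x = 1) (hy : y * y = 1) {m : ℕ} (h : (x * y) ^ (2 * m + 1) = 1) :
    (x * y) ^ m * x * ((x * y) ^ m)⁻¹ = y := by
  have e : x * ((x * y) ^ m)⁻¹ = (x * y) ^ m * x := by
    symm
    calc (x * y) ^ m * x = (x * y) ^ m * (x * (x * y) ^ m) * ((x * y) ^ m)⁻¹ := by group
      _ = x * ((x * y) ^ m)⁻¹ := by rw [semiconj_pow hx hy m, mul_inv_cancel_left]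
  have h1 : (x * y) ^ m * x * ((x * y) ^ m)⁻¹ = (x * y) ^ (2 * m) * x := by
    rw [mul_assoc, e, two_mul, pow_add, mul_assoc]
  rw [h1]
  have h2 : (x * y) ^ (2 * m) = (x * y)⁻¹ := eq_inv_of_mul_eq_one_left (by rw [← pow_succ]; exact h)
  rw [h2, mul_inv_rev, inv_eq_of_mul_eq_one_right hx, inv_eq_of_mul_eq_one_right hy, mul_assoc, hx, mul_one]

/-- Two involutions with product of order `2 k`: the central involution times the first is conjugate to one of
them. -/
theorem mul_mid_conj {x y : G} (hx : x * x = 1) (hy : y * y = 1) (k : ℕ) :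
    IsConj x (x * (x * y) ^ k) ∨ IsConj y (x * (x * y) ^ k) := by
  rcases Nat.even_or_odd' k with ⟨i, rfl | rfl⟩
  · refine Or.inl (isConj_iff.2 ⟨((x * y) ^ i)⁻¹, ?_⟩)
    rw [inv_inv, show 2 * i = i + i by ring, pow_add, ← mul_assoc x, semiconj_pow hx hy i]
  · refine Or.inr (isConj_iff.2 ⟨((x * y) ^ i)⁻¹, ?_⟩)
    rw [inv_inv, show 2 * i + 1 = i + 1 + i by ring, pow_add, pow_add, pow_one, ← mul_assoc x, ← mul_assoc x,
      semiconj_pow hx hy i]
    rw [show ((x * y) ^ i)⁻¹ * x * (x * y) = ((x * y) ^ i)⁻¹ * (x * x) * y by group, hx, mul_one]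

/-- The middle power of a product of two involutions. -/
theorem mid_props {x y : G} (hx : x * x = 1) (hy : y * y = 1) {k : ℕ} (hk : 0 < k)
    (h : orderOf (x * y) = k + k) : orderOf ((x * y) ^ k) = 2 ∧ Commute x ((x * y) ^ k) ∧
      Commute y ((x * y) ^ k) := by
  have h2 : (x * y) ^ k * (x * y) ^ k = 1 := by rw [← pow_add, ← h, pow_orderOf_eq_one]
  have hne : (x * y) ^ k ≠ 1 := fun e => by
    have := Nat.le_of_dvd hk (orderOf_dvd_of_pow_eq_one e)
    omega
  have hcx : Commute x ((x * y) ^ k) := by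
    show x * _ = _
    rw [semiconj_pow hx hy k, inv_eq_of_mul_eq_one_right h2]
  refine ⟨orderOf_eq_prime (by rw [pow_two, h2]) hne, hcx, ?_⟩
  have : Commute (x * (x * y)) ((x * y) ^ k) := hcx.mul_left ((Commute.refl (x * y)).pow_right k)
  rwa [← mul_assoc, hx, one_mul] at this

end CfsgLib.U6Recog

namespace CfsgLib.M22

open CfsgLib.ThreeTransp

/-- The hypotheses are invariant under isomorphism. -/
theorem Setup.map {A B : Type*} [Group A] [Group B] {E : Set A} {E' : Set B} (S : Setup E) (φ : A ≃* B)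
    (hE : φ '' E = E') : Setup E' := by
  subst hE
  have hcm : ∀ {x y : A}, Commute (φ x) (φ y) → Commute x y := fun h => by simpa using h.map φ.symm
  refine ⟨⟨?_, ?_, ?_, ?_⟩, ?_, ⟨?_, ?_, ?_⟩, ?_, ?_⟩
  · rintro _ ⟨x, hx, rfl⟩; rw [← map_mul, S.tt.sq x hx, map_one]
  · rintro _ ⟨x, hx, rfl⟩ h; exact S.tt.ne_one x hx (φ.injective (h.trans (map_one φ).symm))
  · rintro _ ⟨x, hx, rfl⟩ _ ⟨y, hy, rfl⟩
    refine (S.tt.cond x hx y hy).imp (fun h => h.map φ) fun h => ?_
    simp only [← map_mul, h]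
  · rintro g _ ⟨x, hx, rfl⟩; exact ⟨φ.symm g * x * (φ.symm g)⁻¹, S.tt.conj _ x hx, by simp⟩
  · rw [show φ '' E = φ.toMonoidHom '' E from rfl, ← MonoidHom.map_closure, S.gen]
    exact Subgroup.map_top_of_surjective _ φ.surjective
  · rintro _ ⟨x, hx, rfl⟩ _ ⟨y, hy, rfl⟩
    obtain ⟨g, rfl⟩ := S.prim.1 x hx y hy
    exact ⟨φ g, by simp⟩
  · obtain ⟨a, ha, b, hb, hab⟩ := S.prim.2.1
    exact ⟨_, ⟨a, ha, rfl⟩, _, ⟨b, hb, rfl⟩, fun h => hab (φ.injective h)⟩
  · intro B hB hblock
    have hsub : φ ⁻¹' B ⊆ E := fun x hx => by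
      obtain ⟨y, hy, e⟩ := hB hx
      exact φ.injective e ▸ hy
    have hBimg : φ '' (φ ⁻¹' B) = B := Set.image_preimage_eq B φ.surjective
    have hblock' : ∀ g : A, (fun x => g * x * g⁻¹) '' (φ ⁻¹' B) = φ ⁻¹' B ∨
        Disjoint ((fun x => g * x * g⁻¹) '' (φ ⁻¹' B)) (φ ⁻¹' B) := by
      intro g
      have hc : φ '' ((fun x => g * x * g⁻¹) '' (φ ⁻¹' B)) = (fun x => φ g * x * (φ g)⁻¹) '' B := by
        conv_rhs => rw [← hBimg]
        rw [Set.image_image, Set.image_image]
        simp only [map_mul, map_inv]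
      rcases hblock (φ g) with h | h
      · refine Or.inl (φ.injective.image_injective ?_)
        rw [hc, h, hBimg]
      · refine Or.inr ((Set.disjoint_image_iff φ.injective).1 ?_)
        rwa [hc, hBimg]
    rcases S.prim.2.2 (φ ⁻¹' B) hsub hblock' with h | h
    · exact Or.inl (hBimg ▸ h.image φ)
    · exact Or.inr (by rw [← hBimg, h])
  · rw [eq_bot_iff]
    intro z hz
    have h1 : φ.symm z ∈ Subgroup.center A := Subgroup.mem_center_iff.2 fun g =>
      φ.injective (by simpa using Subgroup.mem_center_iff.1 hz (φ g))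
    rw [S.type.1, Subgroup.mem_bot] at h1
    exact Subgroup.mem_bot.2 (by simpa using congrArg φ h1)
  · obtain ⟨d, hd, c, hc, hdc, F, _, _, hF, ⟨f⟩⟩ := S.type.2
    refine ⟨φ d, ⟨d, hd, rfl⟩, φ c, ⟨c, hc, rfl⟩, fun h => hdc (hcm h), F, inferInstance, inferInstance, hF, ?_⟩
    obtain ⟨k⟩ := CfsgLib.M23.closureQuotEquiv φ (S := link E d) (T := link (φ '' E) (φ d))
      (CfsgLib.M23.image_link φ E d)
    exact ⟨k.trans f⟩

end CfsgLib.M22

namespace CfsgLib.U6Recog

open Cfsg
open CfsgLib.ThreeTransp (link)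

variable {G : Type*} [Group G]
variable {F : Type} [Field F] [Fintype F]

namespace Rec

variable {d : G} [Finite G] (R : Rec d F)
include R

/-- The centraliser of a product of commuting members meets the class in the component of the pair. -/
theorem near_of_pair {u v y : G} (hu : u ∈ conjugatesOf d) (hv : v ∈ conjugatesOf d) (hy : y ∈ conjugatesOf d)
    (huv : Commute u v) (hne : u ≠ v) (h : Commute y (u * v)) : Near d u y := by
  obtain ⟨U⟩ := R.at' hu
  have hD := class_eq hu
  have := U.jCent_le (e := v) ⟨hD ▸ hv, hne.symm, huv⟩ (Subgroup.mem_centralizer_singleton_iff.2 h.eq)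
  have hn := (U.mem_comp_of_mem (hD ▸ hy) this).2
  unfold Near at hn ⊢
  rwa [hD] at hn

/-- Members of different components have product of odd order. -/
theorem odd_of_far {x y : G} (hx : x ∈ conjugatesOf d) (hy : y ∈ conjugatesOf d) (h : ¬ Near d x y) :
    Odd (orderOf (x * y)) := by
  by_contra ho
  obtain ⟨k, hk⟩ := Nat.not_odd_iff_even.1 ho
  have hxs := R.sq_of_mem hx
  have hys := R.sq_of_mem hy
  have hk0 : 0 < k := by have := orderOf_pos (x * y); omega
  obtain ⟨hw, hcx, hcy⟩ := mid_props hxs hys hk0 hk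
  have hxw : x * (x * y) ^ k ∈ conjugatesOf d := by
    rcases mul_mid_conj hxs hys k with e | e
    · exact hx.trans e
    · exact hy.trans e
  have hne : x ≠ x * (x * y) ^ k := fun e => by
    rw [left_eq_mul] at e
    rw [e, orderOf_one] at hw
    norm_num at hw
  refine h (R.near_of_pair hx hxw hy ((Commute.refl x).mul_right hcx) hne ?_)
  rw [← mul_assoc, hxs, one_mul]
  exact hcy

/-- Every conjugate is in the component. -/
theorem comp_eq {y : G} (hy : y ∈ conjugatesOf d) : y ∈ Comp d := by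
  by_contra hfar
  obtain ⟨v, hv⟩ := exists_point R.hF
  obtain ⟨p, hp⟩ := U6.exists_pt R.hF hv
  obtain ⟨e, he, -⟩ := R.exists_link hp
  set j := d * e with hj
  have hjs : j * j = 1 := R.j_sq he
  have hys := R.sq_of_mem hy
  -- the product of `j` and `y` has even order
  obtain ⟨k, hk⟩ : Even (orderOf (j * y)) := by
    rw [← Nat.not_odd_iff_even]
    rintro ⟨m, hm⟩
    have := conj_of_odd hjs hys (m := m) (by rw [← hm, pow_orderOf_eq_one])
    refine R.two_notMem (IsConj.refl d) he.1 he.2.2 he.2.1.symm ?_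
    exact hy.trans ((isConj_iff.2 ⟨(j * y) ^ m, this⟩ : IsConj j y).symm)
  have hk0 : 0 < k := by have := orderOf_pos (j * y); omega
  obtain ⟨hw, hcj, hcy⟩ := mid_props hjs hys hk0 hk
  set w := (j * y) ^ k with hwdef
  have hwM : w ∈ compGroup d := R.jCent_le he (Subgroup.mem_centralizer_singleton_iff.2 hcj.symm)
  have S := R.compSetup
  obtain ⟨F', _, _, hF', hM⟩ := S.exists_models
  have hwo : orderOf (⟨w, hwM⟩ : ↥(compGroup d)) = 2 := by
    rw [← hw]; exact (orderOf_injective (compGroup d).subtype (compGroup d).subtype_injective _).symm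
  rcases M22.invol_cases S hF' hM hwo with h | ⟨a, b, ha, hb, hab⟩ | ⟨a, b, c, T, habc⟩
  · exact hfar (R.comp_mem_of_commute (x := w) h hy hcy.symm)
  · have e : (a : G) * b = w := congrArg Subtype.val hab
    refine hfar ⟨hy, R.near_trans (IsConj.refl d) (show (a : G) ∈ conjugatesOf d from ha.1) hy
      (show (a : G) ∈ Comp d from ha).2 ?_⟩
    exact R.near_of_pair (show (a : G) ∈ conjugatesOf d from ha.1) (show (b : G) ∈ conjugatesOf d from hb.1.1) hy
      (congrArg Subtype.val hb.2.2.eq) (fun e' => hb.2.1 (Subtype.ext e'.symm)) (e ▸ hcy)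
  -- the triple case
  have hA : (a : G) ∈ Comp d := T.ha
  have hB : (b : G) ∈ Comp d := T.hb
  have hC : (c : G) ∈ Comp d := T.hc
  have hw3 : (a : G) * b * c = w := congrArg Subtype.val habc
  obtain ⟨p', q', r', T', -, -, hall⟩ := M22.exists_partner_triple S hF' hM T
  -- a further member commuting with the triple
  obtain ⟨g, hgD, hga, hgb, hgc, hgsix⟩ : ∃ g ∈ compSet d, Commute g a ∧ Commute g b ∧ Commute g c ∧
      g ∉ [a, b, c, p', q', r'] := by
    classical
    have h3 := M22.bases_three S hF' hM T.ha T.mem_link_b ⟨T.mem_link_c, T.hc, T.bc.symm, T.cbc⟩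
    obtain ⟨B, hB, haB, hbB, hcB⟩ := Set.nonempty_of_ncard_ne_zero (by rw [h3]; norm_num :
      {B | M22.IsBase (compSet d) B ∧ a ∈ B ∧ b ∈ B ∧ c ∈ B}.ncard ≠ 0)
    obtain ⟨g, hgB, hg6⟩ : ∃ g ∈ B, g ∉ [a, b, c, p', q', r'] := by
      by_contra hcon
      push Not at hcon
      have := Set.ncard_le_ncard (show B ⊆ (↑([a, b, c, p', q', r'].toFinset) : Set _) from
        fun x hx => by rw [List.coe_toFinset]; exact hcon x hx) (Set.toFinite _)
      rw [hB.card, Set.ncard_coe_finset] at this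
      have := this.trans (List.toFinset_card_le _)
      simp at this
    exact ⟨g, hB.sub hgB, hB.comm g hgB a haB, hB.comm g hgB b hbB, hB.comm g hgB c hcB, hg6⟩
  have cm : ∀ {s t : ↥(compGroup d)}, Commute s t → Commute (s : G) t := fun h => congrArg Subtype.val h.eq
  have cwa : Commute (a : G) w := hw3 ▸ ((Commute.refl (a : G)).mul_right (cm T.cab)).mul_right (cm T.cac)
  have cwg : Commute (g : G) w := hw3 ▸ ((cm hga).mul_right (cm hgb)).mul_right (cm hgc)
  have hG : (g : G) ∈ Comp d := hgD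
  -- both `a` and `g` are conjugate to `y` in the centraliser of `w`
  have conjy : ∀ {x : G}, x ∈ Comp d → Commute x w → ∃ c ∈ Subgroup.centralizer ({w} : Set G), c * x * c⁻¹ = y := by
    intro x hx hxw
    have hodd := R.odd_of_far hx.1 hy (fun hn => hfar ⟨hy, R.near_trans (IsConj.refl d) hx.1 hy hx.2 hn⟩)
    obtain ⟨m, hm⟩ := hodd
    exact ⟨_, Subgroup.mem_centralizer_singleton_iff.2 ((hxw.mul_left hcy).pow_left m).eq,
      conj_of_odd (R.sq_of_mem hx.1) hys (m := m) (by rw [← hm, pow_orderOf_eq_one])⟩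
  obtain ⟨c₁, hc₁, hc₁a⟩ := conjy hA cwa
  obtain ⟨c₂, hc₂, hc₂g⟩ := conjy hG cwg
  set h := c₂⁻¹ * c₁ with hh
  have hhw : h * w * h⁻¹ = w := mul_inv_eq_iff_eq_mul.2
    (Subgroup.mem_centralizer_singleton_iff.1 (mul_mem (inv_mem hc₂) hc₁))
  have hhg : h * (a : G) * h⁻¹ = g := by
    calc h * (a : G) * h⁻¹ = c₂⁻¹ * (c₁ * a * c₁⁻¹) * c₂ := by rw [hh]; group
      _ = g := by rw [hc₁a, ← hc₂g]; group
  set u := h * (b : G) * h⁻¹ with hu
  set v := h * (c : G) * h⁻¹ with hv
  have hguv : (g : G) * u * v = w := by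
    rw [← hhg, hu, hv]
    calc h * (a : G) * h⁻¹ * (h * b * h⁻¹) * (h * c * h⁻¹) = h * ((a : G) * b * c) * h⁻¹ := by group
      _ = w := by rw [hw3, hhw]
  have huD : u ∈ conjugatesOf d := hB.1.trans (isConj_iff.2 ⟨h, rfl⟩)
  have hvD : v ∈ conjugatesOf d := hC.1.trans (isConj_iff.2 ⟨h, rfl⟩)
  have huv : Commute u v := (Commute.conj_iff h).2 (cm T.cbc)
  have hune : u ≠ v := fun e => T.bc (Subtype.ext (mul_left_cancel (mul_right_cancel e)))
  have hgs : (g : G) * g = 1 := R.sq_of_mem hG.1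
  have huv' : u * v = (g : G) * w := by
    calc u * v = (g : G) * g * u * v := by rw [hgs, one_mul]
      _ = g * (g * u * v) := by group
      _ = g * w := by rw [hguv]
  have hnu : Near d u (a : G) := R.near_of_pair huD hvD hA.1 huv hune (huv' ▸ (cm hga).symm.mul_right cwa)
  have hU : u ∈ Comp d := ⟨huD, R.near_trans (IsConj.refl d) hA.1 huD hA.2 hnu.symm'⟩
  have hV : v ∈ Comp d := R.comp_mem_of_commute hU hvD huv
  obtain ⟨hgu, hgv⟩ := R.pair_fix hU hV hG huv hune (huv' ▸ (Commute.refl (g : G)).mul_right cwg)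
  have hnot : w ∉ conjugatesOf d := hw3 ▸ R.three_notMem hA.1 hB.1 hC.1 (cm T.cab) (cm T.cac) (cm T.cbc)
    (fun e' => T.ab (Subtype.ext e')) (fun e' => T.ac (Subtype.ext e')) (fun e' => T.bc (Subtype.ext e'))
  have hgnu : (g : G) ≠ u := fun e' => by
    rw [← e', hgs, one_mul] at hguv
    exact hnot (hguv ▸ hvD)
  have hgnv : (g : G) ≠ v := fun e' => by
    rw [← e', mul_assoc, hgu.symm.eq, ← mul_assoc, hgs, one_mul] at hguv
    exact hnot (hguv ▸ huD)
  have Tg : M22.Tri (compSet d) g ⟨u, comp_le hU⟩ ⟨v, comp_le hV⟩ :=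
    ⟨hgD, hU, hV, fun e' => hgnu (congrArg Subtype.val e'), fun e' => hgnv (congrArg Subtype.val e'),
      fun e' => hune (congrArg Subtype.val e'), Subtype.ext hgu.eq, Subtype.ext hgv.eq, Subtype.ext huv.eq⟩
  have hprod : g * (⟨u, comp_le hU⟩ : ↥(compGroup d)) * ⟨v, comp_le hV⟩ = a * b * c :=
    Subtype.ext (hguv.trans hw3.symm)
  simp only [List.mem_cons, List.not_mem_nil, or_false, not_or] at hgsix
  rcases hall _ _ _ Tg hprod with hs | hs
  · have := (hs g).1 List.mem_cons_self
    simp only [List.mem_cons, List.not_mem_nil, or_false] at this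
    tauto
  · have := (hs g).1 List.mem_cons_self
    simp only [List.mem_cons, List.not_mem_nil, or_false] at this
    tauto

/-- The group of the component is the whole group. -/
theorem compGroup_eq_top : compGroup d = ⊤ :=
  eq_top_iff.2 fun g _ => R.mem_compGroup (R.comp_eq (isConj_iff.2 ⟨g, rfl⟩))

/-- The class is the component. -/
theorem comp_eq_class : Comp d = conjugatesOf d :=
  Set.ext fun _ => ⟨fun h => h.1, fun h => R.comp_eq h⟩

/-- `G` with the class of `d` is of type `M(22)`, reflection condition aside. -/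
theorem setup : M22.Setup (conjugatesOf d) := by
  let φ : ↥(compGroup d) ≃* G := (MulEquiv.subgroupCongr R.compGroup_eq_top).trans Subgroup.topEquiv
  have hφ : ∀ x, φ x = (x : G) := fun _ => rfl
  have hD : φ '' compSet d = conjugatesOf d := by
    ext x
    constructor
    · rintro ⟨y, hy, rfl⟩; exact hy.1
    · intro hx; exact ⟨⟨x, R.compGroup_eq_top ▸ Subgroup.mem_top x⟩, R.comp_eq hx, rfl⟩
  exact R.compSetup.map φ hD

end Rec

end CfsgLib.U6Recog
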