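import Cfsg.Agent.Lib.ThreeTransp.U6Recog.Local
import Cfsg.Agent.Lib.ThreeTransp.U6PtFrame

/-!
# The commuting graph of the conjugates: a component has diameter two

For `y` at distance two from `d` through `e` every member of the link of `d` commutes with a member of the
link commuting with `y`: the common members form a section over the quadrangle at `e` closed under the
braid, and a section that avoids a hyperplane fails on four points.
-/

set_option autoImplicit false

namespace CfsgLib.U6Recog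

open Cfsg CfsgLib.U6 CfsgLib.U6.Plane
open CfsgLib.ThreeTransp (link)
open CfsgLib.PSUAut (Isot act)
open CfsgLib.UnitarySpec (psuMk)

variable {G : Type*} [Group G]
variable {F : Type} [Field F] [Fintype F]

local notation "H6" => Cfsg.hermForm 6 F 2
local notation "H4" => Cfsg.hermForm 4 F 2

/-- Four isotropic points of the quadrangle. -/
def four : Fin 4 → Fin 4 → Fin 4 :=
  ![![0, 1, 0, 3], ![1, 3, 1, 3], ![1, 2, 1, 3], ![0, 1, 1, 0]]

/-- The form on codes. -/
def formCode (a b : Fin 4 → Fin 4) : Fin 4 :=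
  s (s (s (m (a 0) (cj (b 0))) (m (a 1) (cj (b 1)))) (m (a 2) (cj (b 2)))) (m (a 3) (cj (b 3)))

theorem four_isotropic : ∀ i : Fin 4, formCode (four i) (four i) = 0 ∧ four i ≠ 0 := by decide +kernel

/-- No scaling of the four points avoids the inner product `1`. -/
theorem four_scaling : ∀ k₀ k₁ k₂ k₃ : Fin 4, k₀ ≠ 0 → k₁ ≠ 0 → k₂ ≠ 0 → k₃ ≠ 0 → ∃ i j : Fin 4,
    formCode (fun l => m (![k₀, k₁, k₂, k₃] i) (four i l)) (fun l => m (![k₀, k₁, k₂, k₃] j) (four j l)) = 1 := by
  decide +kernel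

theorem formCode_eq (K : Coord F) (a b : Fin 4 → Fin 4) :
    H4 (fun l => K.ι (a l)) (fun l => K.ι (b l)) = K.ι (formCode a b) := by
  simp only [hermForm, formCode, K.ι_s, K.ι_m, K.ι_cj, K.hσ, Fin.sum_univ_four]

theorem comm_one_four (hF : Fintype.card F = 2 ^ 2) {r s : Fin 4 → F} (h : H4 r s = 1) : H4 s r = 1 := by
  rw [← CfsgLib.Classical.hermForm_conj hF, h, one_pow]

theorem smul_left_four (hF : Fintype.card F = 2 ^ 2) (c : F) (r w : Fin 4 → F) : H4 (c • r) w = c * H4 r w := by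
  obtain ⟨σ, hσ⟩ := exists_sigma hF
  exact PSUAut.hsmul_left hF hσ c r w

theorem add_left_four (hF : Fintype.card F = 2 ^ 2) (r s w : Fin 4 → F) : H4 (r + s) w = H4 r w + H4 s w := by
  obtain ⟨σ, hσ⟩ := exists_sigma hF
  exact PSUAut.hadd_left hF hσ r s w

/-- Two conjugates commute or have a common neighbour. -/
def Near (d a b : G) : Prop := Commute a b ∨ ∃ e ∈ conjugatesOf d, Commute a e ∧ Commute e b

theorem Near.symm' {d a b : G} : Near d a b → Near d b a
  | Or.inl h => Or.inl h.symm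
  | Or.inr ⟨e, he, h1, h2⟩ => Or.inr ⟨e, he, h2.symm, h1.symm⟩

namespace Rec

variable {d : G} [Finite G] (R : Rec d F)
include R

theorem commute_of_pts {x y : G} (hx : x ∈ link (conjugatesOf d) d) (hy : y ∈ link (conjugatesOf d) d)
    {u v : Fin 6 → F} (hu : IsPt (R.π (R.toC hx)) u) (hv : IsPt (R.π (R.toC hy)) v) :
    Commute x y ↔ H6 u v = 0 := by
  obtain ⟨a, ha, rfl⟩ := R.vec_cases hx hu
  obtain ⟨b, hb, rfl⟩ := R.vec_cases hy hv
  rw [R.commute_iff hx hy, U6.smul_left R.hF, U6.smul_right R.hF, mul_eq_zero, mul_eq_zero]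
  simp [ha, hb]

theorem isPt_conj {x y : G} (hx : x ∈ link (conjugatesOf d) d) (hy : y ∈ link (conjugatesOf d) d)
    {u v : Fin 6 → F} (hu : IsPt (R.π (R.toC hx)) u) (hv : IsPt (R.π (R.toC hy)) v) :
    IsPt (R.π (R.toC (R.conj_link hx hy))) (v + H6 v u • u) := by
  obtain ⟨-, t, ht, htx⟩ := hu
  have := hv.conj R.hF t
  rw [ht, htx] at this
  rwa [← map_inv, ← map_mul, ← map_mul] at this

/-- The heart of diameter two. -/
theorem meet {y e a : G} (hy : y ∈ conjugatesOf d) (hdy : ¬ Commute d y)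
    (he : e ∈ link (conjugatesOf d) d) (hey : Commute e y) (ha : a ∈ link (conjugatesOf d) d) :
    ∃ f ∈ link (conjugatesOf d) d, Commute f y ∧ Commute f a := by
  classical
  by_cases hea : Commute e a
  · exact ⟨e, he, hey, hea⟩
  obtain ⟨A⟩ := R.at' he.1
  have hD : conjugatesOf e = conjugatesOf d := class_eq he.1
  obtain ⟨P⟩ := exists_frame R.hF (R.isPt_vec he).1
  set u := R.vec he with hu
  have hde : d ∈ link (conjugatesOf e) e := ⟨hD ▸ IsConj.refl d, he.2.1.symm, he.2.2.symm⟩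
  have hye : y ∈ link (conjugatesOf e) e := ⟨hD ▸ hy, fun h => hdy (h ▸ he.2.2), hey⟩
  set pd := A.vec hde with hpd
  set py := A.vec hye with hpy
  have hdy' : H6 pd py ≠ 0 := fun h => hdy ((A.commute_iff hde hye).2 h)
  -- the section
  let Sec : (Fin 4 → F) → F → Prop := fun r α => ∃ (f : G) (hf : f ∈ link (conjugatesOf d) d),
    Commute f y ∧ Commute f e ∧ IsPt (R.π (R.toC hf)) (α • u + P.j r)
  have hsec : ∀ r : Fin 4 → F, r ≠ 0 → H4 r r = 0 → ∃ α, Sec r α := by
    intro r hr hrr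
    have hjr : Isot 2 (P.j r) := by
      have := P.isot R.hF hr hrr 0
      rwa [zero_smul, zero_add] at this
    obtain ⟨p, hp⟩ := U6.exists_pt R.hF hjr
    obtain ⟨g, hg, rfl⟩ := R.exists_link hp
    have hge : Commute g e := (R.commute_of_pts hg he hp (R.isPt_vec he)).2 (P.hju r)
    have hgne : g ≠ e := by
      rintro rfl
      obtain ⟨c, -, hc⟩ := IsPt.span_eq R.hF (R.isPt_vec he) hp
      refine hr (P.coords R.hF (α := 0) (α' := c) (r' := 0) ?_).2
      rw [zero_smul, zero_add, map_zero, add_zero]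
      exact hc
    have hgl : g ∈ link (conjugatesOf e) e := ⟨hD ▸ hg.1, hgne, hge.symm⟩
    set pg := A.vec hgl with hpg
    have hgd : H6 pg pd = 0 := (A.commute_iff hgl hde).1 hg.2.2.symm
    set c := H6 pg py * (H6 pd py)⁻¹ with hc
    have hv : Isot 2 (pg + c • pd) := by
      refine ⟨fun h => hg.2.1 (A.link_ext hgl hde ?_), ?_⟩
      · have hc0 : c ≠ 0 := fun h0 => (A.isPt_vec hgl).1.1 (by rwa [h0, zero_smul, add_zero] at h)
        refine IsPt.eq_of_smul R.hF (A.isPt_vec hgl) (A.isPt_vec hde) (a := c⁻¹) ?_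
        rw [← hpg, ← hpd, show pg = c • pd by
          calc pg = pg + (c • pd + c • pd) := by rw [vadd_self R.hF, add_zero]
            _ = c • pd := by rw [← add_assoc, h, zero_add], inv_smul_smul₀ hc0]
      · rw [U6.add_left R.hF, U6.add_right R.hF, U6.add_right R.hF, U6.smul_left R.hF, U6.smul_left R.hF,
          U6.smul_right R.hF, U6.smul_right R.hF, (A.isPt_vec hgl).1.2, (A.isPt_vec hde).1.2, hgd,
          (comm_zero R.hF).1 hgd]
        ring
    obtain ⟨q, hq⟩ := U6.exists_pt R.hF hv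
    obtain ⟨f, hf, rfl⟩ := A.exists_link hq
    have hfd : Commute f d := (A.commute_of_pts hf hde hq (A.isPt_vec hde)).2 (by
      rw [U6.add_left R.hF, U6.smul_left R.hF, hgd, (A.isPt_vec hde).1.2, mul_zero, add_zero])
    have hfy : Commute f y := (A.commute_of_pts hf hye hq (A.isPt_vec hye)).2 (by
      rw [U6.add_left R.hF, U6.smul_left R.hF, hc, mul_assoc, inv_mul_cancel₀ hdy', mul_one]
      exact U6.add_self R.hF _)
    have hfd' : f ≠ d := fun h => hdy (h ▸ hfy)
    have hfl : f ∈ link (conjugatesOf d) d := ⟨hD ▸ hf.1, hfd', hfd.symm⟩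
    have hfe : Commute f e := hf.2.2.symm
    set wf := R.vec hfl with hwf
    have hfu : H6 wf u = 0 := (R.commute_iff hfl he).1 hfe
    have hfg : Commute f g := (A.commute_of_pts hf hgl hq (A.isPt_vec hgl)).2 (by
      rw [U6.add_left R.hF, U6.smul_left R.hF, (A.isPt_vec hgl).1.2, (comm_zero R.hF).1 hgd, mul_zero, add_zero])
    have hfr : H6 wf (P.j r) = 0 := (R.commute_of_pts hfl hg (R.isPt_vec hfl) hp).1 hfg
    have hmem : wf ∈ Submodule.span F {u, P.j r} := by
      by_contra hn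
      obtain ⟨w, hw, hwv, hwf1⟩ := exists_iso_pairing R.hF ![u, P.j r] (u := wf) (R.isPt_vec hfl).1.2 (fun i => by
        fin_cases i
        · exact hfu
        · exact hfr) (by
        rw [Matrix.range_cons, Matrix.range_cons, Matrix.range_empty, Set.union_empty, Set.singleton_union]
        exact hn)
      obtain ⟨o, ho⟩ := U6.exists_pt R.hF hw
      obtain ⟨h, hh, rfl⟩ := R.exists_link ho
      have hhe : Commute h e := (R.commute_of_pts hh he ho (R.isPt_vec he)).2 (hwv 0)
      have hhg : Commute h g := (R.commute_of_pts hh hg ho hp).2 (hwv 1)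
      have hhne : h ≠ e := by
        rintro rfl
        have := (R.commute_of_pts hh hfl ho (R.isPt_vec hfl)).1 hfe.symm
        rw [hwf1] at this
        exact one_ne_zero this
      have hhl : h ∈ link (conjugatesOf e) e := ⟨hD ▸ hh.1, hhne, hhe.symm⟩
      have h1 : H6 (A.vec hhl) pg = 0 := (A.commute_iff hhl hgl).1 hhg
      have h2 : H6 (A.vec hhl) pd = 0 := (A.commute_iff hhl hde).1 hh.2.2.symm
      have hhf : Commute h f := (A.commute_of_pts hhl hf (A.isPt_vec hhl) hq).2 (by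
        rw [U6.add_right R.hF, U6.smul_right R.hF, h1, h2, mul_zero, add_zero])
      have := (R.commute_of_pts hh hfl ho (R.isPt_vec hfl)).1 hhf
      rw [hwf1] at this
      exact one_ne_zero this
    obtain ⟨p', q', hpq⟩ := Submodule.mem_span_pair.1 hmem
    have hq0 : q' ≠ 0 := by
      intro h0
      rw [h0, zero_smul, add_zero] at hpq
      refine hf.2.1 (R.link_ext hfl he ?_)
      have hp0 : p' ≠ 0 := fun h => (R.isPt_vec hfl).1.1 (by
        show wf = 0
        rw [← hpq, h, zero_smul])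
      exact IsPt.eq_of_smul R.hF (R.isPt_vec hfl) (R.isPt_vec he) (a := p'⁻¹) (by
        rw [← hu, ← hwf, ← hpq, inv_smul_smul₀ hp0])
    refine ⟨q'⁻¹ * p', f, hfl, hfy, hfe, ?_⟩
    have := (R.isPt_vec hfl).smul R.hF (inv_ne_zero hq0)
    rwa [← hwf, ← hpq, smul_add, inv_smul_smul₀ hq0, smul_smul] at this
  have hscale : ∀ (r : Fin 4 → F) (α c : F), c ≠ 0 → Sec r α → Sec (c • r) (c * α) := by
    rintro r α c hc ⟨f, hf, h1, h2, h3⟩
    refine ⟨f, hf, h1, h2, ?_⟩
    have := h3.smul R.hF hc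
    rwa [smul_add, smul_smul, ← map_smul] at this
  have hadd : ∀ (r s : Fin 4 → F) (α β : F), H4 r s = 1 → Sec r α → Sec s β → Sec (r + s) (α + β) := by
    rintro r s α β hrs ⟨f, hf, f1, f2, f3⟩ ⟨h, hh, g1, g2, g3⟩
    refine ⟨f * h * f⁻¹, R.conj_link hf hh, (f1.mul_left g1).mul_left f1.inv_left,
      (f2.mul_left g2).mul_left f2.inv_left, ?_⟩
    have := R.isPt_conj hf hh f3 g3
    rw [P.form_eq R.hF, U6Recog.comm_one_four R.hF hrs, one_smul] at this
    rwa [map_add, add_smul, show α • u + β • u + (P.j r + P.j s) = β • u + P.j s + (α • u + P.j r) by abel]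
  -- the hyperplane of `a`
  have hau : H6 (R.vec ha) u ≠ 0 := fun h => hea ((R.commute_iff ha he).2 h).symm
  set va := (H6 (R.vec ha) u)⁻¹ • R.vec ha with hva
  have hva1 : H6 va u = 1 := by rw [hva, U6.smul_left R.hF, inv_mul_cancel₀ hau]
  obtain ⟨γ, β, w, hdec⟩ := P.decomp va
  have hβ : β = 1 := by
    rw [hdec, U6.add_left R.hF, U6.add_left R.hF, U6.smul_left R.hF, U6.smul_left R.hF, P.iso.2, P.hyu,
      P.hju, mul_zero, zero_add, mul_one, add_zero] at hva1
    exact hva1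
  have hform : ∀ (r : Fin 4 → F) (α : F), H6 (α • u + P.j r) va = α + H4 r w := by
    intro r α
    rw [hdec, hβ, one_smul, show γ • u + P.y + P.j w = γ • u + P.j w + P.y by abel, U6.add_right R.hF,
      P.form_eq R.hF, U6.add_left R.hF, U6.smul_left R.hF, P.uy R.hF, P.hjy, mul_one, add_zero, add_comm]
  by_contra hcon
  push Not at hcon
  have hne : ∀ (r : Fin 4 → F) (α : F), Sec r α → α + H4 r w ≠ 0 := by
    rintro r α ⟨f, hf, h1, -, h3⟩ h0
    refine hcon f hf h1 ((R.commute_of_pts hf ha h3 ((R.isPt_vec ha).smul R.hF (inv_ne_zero hau))).2 ?_)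
    rw [← hva, hform, h0]
  obtain ⟨K⟩ := exists_coord R.hF
  have hι : ∀ {k : Fin 4}, k ≠ 0 → K.ι k ≠ 0 := fun {k} hk h => hk (K.ι_injective R.hF (h.trans K.ι_zero.symm))
  have hnorm : ∀ i : Fin 4, ∃ k : Fin 4, k ≠ 0 ∧ ∃ α,
      Sec (fun l => K.ι (m k (four i l))) α ∧ α + H4 (fun l => K.ι (m k (four i l))) w = 1 := by
    intro i
    have h1 : (fun l => K.ι (four i l)) ≠ (0 : Fin 4 → F) := fun h => (four_isotropic i).2 (funext fun l =>
      K.ι_injective R.hF ((congrFun h l).trans K.ι_zero.symm))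
    obtain ⟨α, hα⟩ := hsec _ h1 (by rw [formCode_eq, (four_isotropic i).1, K.ι_zero])
    obtain ⟨k, hk⟩ := K.ι_surj (α + H4 (fun l => K.ι (four i l)) w)⁻¹
    have hk0 : k ≠ 0 := fun h => inv_ne_zero (hne _ _ hα) (by rw [← hk, h, K.ι_zero])
    have e : (fun l => K.ι (m k (four i l))) = K.ι k • (fun l => K.ι (four i l)) := funext fun l => K.ι_m _ _
    refine ⟨k, hk0, K.ι k * α, e ▸ hscale _ _ _ (hι hk0) hα, ?_⟩
    rw [e, U6Recog.smul_left_four R.hF, ← mul_add, hk, inv_mul_cancel₀ (hne _ _ hα)]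
  choose k hk0 α hα hα1 using hnorm
  obtain ⟨i, j, hij⟩ := four_scaling (k 0) (k 1) (k 2) (k 3) (hk0 0) (hk0 1) (hk0 2) (hk0 3)
  have hkk : ∀ i, ![k 0, k 1, k 2, k 3] i = k i := fun i => by fin_cases i <;> rfl
  rw [hkk, hkk] at hij
  have h1 : H4 (fun l => K.ι (m (k i) (four i l))) (fun l => K.ι (m (k j) (four j l))) = 1 := by
    rw [formCode_eq, hij, K.ι_one]
  refine hne _ _ (hadd _ _ _ _ h1 (hα i) (hα j)) ?_
  rw [U6Recog.add_left_four R.hF, add_add_add_comm, hα1, hα1]
  exact U6.add_self R.hF 1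

/-- Near pairs are closed under commuting. -/
theorem near_step {a b c : G} (ha : a ∈ conjugatesOf d) (hb : b ∈ conjugatesOf d) (hc : c ∈ conjugatesOf d)
    (h : Near d a b) (hbc : Commute b c) : Near d a c := by
  by_cases hab : Commute a b
  · exact Or.inr ⟨b, hb, hab, hbc⟩
  by_cases hcb : c = b
  · exact hcb ▸ h
  obtain ⟨e, he, hae, heb⟩ := h.resolve_left hab
  obtain ⟨B⟩ := R.at' hb
  have hD := class_eq hb
  obtain ⟨f, hf, hfa, hfc⟩ := B.meet (y := a) (hD ▸ ha) (fun h => hab h.symm)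
    (e := e) ⟨hD ▸ he, fun h => hab (h ▸ hae), heb.symm⟩ hae.symm (a := c) ⟨hD ▸ hc, hcb, hbc⟩
  exact Or.inr ⟨f, hD ▸ hf.1, hfa.symm, hfc⟩

theorem near_trans {a b c : G} (ha : a ∈ conjugatesOf d) (hb : b ∈ conjugatesOf d) (hc : c ∈ conjugatesOf d)
    (h1 : Near d a b) (h2 : Near d b c) : Near d a c := by
  rcases h2 with h | ⟨e, he, hbe, hec⟩
  · exact R.near_step ha hb hc h1 h
  · exact R.near_step ha he hc (R.near_step ha hb he h1 hbe) hec

/-- Near members that do not commute satisfy the braid relation. -/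
theorem near_braid {a b : G} (ha : a ∈ conjugatesOf d) (hb : b ∈ conjugatesOf d) (h : Near d a b)
    (hab : ¬ Commute a b) : a * b * a⁻¹ = b * a * b⁻¹ := by
  obtain ⟨e, he, hae, heb⟩ := h.resolve_left hab
  obtain ⟨E⟩ := R.at' he
  have hD := class_eq he
  exact E.braid ⟨hD ▸ ha, fun h => hab (h ▸ heb), hae.symm⟩ ⟨hD ▸ hb, fun h => hab (h ▸ hae), heb⟩ hab

end Rec

end CfsgLib.U6Recog
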