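import Cfsg.Agent.Lib.ThreeTransp.U6Recog.Distance
import Cfsg.Agent.Lib.ThreeTransp.M22Model
import Cfsg.Agent.Lib.ThreeTransp.PrimLink

/-!
# The group of the component of `d` is of type `M(22)`
-/

set_option autoImplicit false

namespace CfsgLib.U6Recog

open Cfsg CfsgLib.U6
open CfsgLib.ThreeTransp (link comp IsTT)
open CfsgLib.ThreeTransp.Factor (linkSub)
open CfsgLib.PSUAut (Isot act)

variable {G : Type*} [Group G]
variable {F : Type} [Field F] [Fintype F]

/-- The component of `d`. -/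
def Comp (d : G) : Set G := {y | y ∈ conjugatesOf d ∧ Near d d y}

/-- Its group. -/
def compGroup (d : G) : Subgroup G := Subgroup.closure (Comp d)

/-- Its class, in its group. -/
def compSet (d : G) : Set ↥(compGroup d) := {x | (x : G) ∈ Comp d}

theorem near_conj {d a b : G} (g : G) (h : Near d a b) : Near d (g * a * g⁻¹) (g * b * g⁻¹) := by
  rcases h with h | ⟨e, he, h1, h2⟩
  · exact Or.inl ((Commute.conj_iff g).2 h)
  · exact Or.inr ⟨g * e * g⁻¹, he.trans (isConj_iff.2 ⟨g, rfl⟩), (Commute.conj_iff g).2 h1,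
      (Commute.conj_iff g).2 h2⟩

theorem self_mem_comp (d : G) : d ∈ Comp d := ⟨IsConj.refl d, Or.inl (Commute.refl d)⟩

theorem comp_le {d x : G} (h : x ∈ Comp d) : x ∈ compGroup d := Subgroup.subset_closure h

theorem link_subset_comp {d : G} : link (conjugatesOf d) d ⊆ Comp d := fun _ hx => ⟨hx.1, Or.inl hx.2.2⟩

namespace Rec

variable {d : G} [Finite G] (R : Rec d F)
include R

theorem comp_near {x y : G} (hx : x ∈ Comp d) (hy : y ∈ Comp d) : Near d x y :=
  R.near_trans hx.1 (IsConj.refl d) hy.1 hx.2.symm' hy.2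

theorem comp_mem_of_commute {x y : G} (hx : x ∈ Comp d) (hy : y ∈ conjugatesOf d) (h : Commute x y) : y ∈ Comp d :=
  ⟨hy, R.near_trans (IsConj.refl d) hx.1 hy hx.2 (Or.inl h)⟩

theorem centralizer_le : Subgroup.centralizer ({d} : Set G) ≤ compGroup d :=
  R.closure_link.symm.le.trans (Subgroup.closure_mono link_subset_comp)

theorem comp_conj_mem {g x : G} (hg : g * d * g⁻¹ ∈ Comp d) (hx : x ∈ Comp d) : g * x * g⁻¹ ∈ Comp d :=
  ⟨hx.1.trans (isConj_iff.2 ⟨g, rfl⟩), R.near_trans (IsConj.refl d) hg.1 (hx.1.trans (isConj_iff.2 ⟨g, rfl⟩))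
    hg.2 (near_conj g hx.2)⟩

theorem conj_comp {x y : G} (hx : x ∈ Comp d) (hy : y ∈ Comp d) : x * y * x⁻¹ ∈ Comp d := by
  have hD : x * y * x⁻¹ ∈ conjugatesOf d := hy.1.trans (isConj_iff.2 ⟨x, rfl⟩)
  refine ⟨hD, R.near_trans (IsConj.refl d) hx.1 hD hx.2 ?_⟩
  have := near_conj x (R.comp_near hx hy)
  rwa [mul_inv_cancel_right] at this

theorem group_conj {g : G} (hg : g ∈ compGroup d) {x : G} (hx : x ∈ Comp d) : g * x * g⁻¹ ∈ Comp d := by
  have : ∀ x ∈ Comp d, g * x * g⁻¹ ∈ Comp d ∧ g⁻¹ * x * g ∈ Comp d := by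
    induction hg using Subgroup.closure_induction with
    | mem y hy =>
      intro x hx
      have hi : y⁻¹ = y := inv_eq_of_mul_eq_one_right (R.sq_of_mem hy.1)
      have h := R.conj_comp hy hx
      rw [hi] at h ⊢
      exact ⟨h, h⟩
    | one => intro x hx; simpa using hx
    | mul u v _ _ i1 i2 =>
      intro x hx
      exact ⟨by simpa [mul_assoc] using (i1 _ (i2 x hx).1).1, by simpa [mul_assoc] using (i2 _ (i1 x hx).2).2⟩
    | inv u _ i1 => intro x hx; exact ⟨by simpa using (i1 x hx).2, by simpa using (i1 x hx).1⟩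
  exact (this x hx).1

omit R in
theorem conj_braid {a b : G} (ha : a * a = 1) (hb : b * b = 1) (h : a * b * a⁻¹ = b * a * b⁻¹) :
    a * b * a = b * a * b ∧ a * b * a * (a * b)⁻¹ = b := by
  have ha' : a⁻¹ = a := inv_eq_of_mul_eq_one_right ha
  have hb' : b⁻¹ = b := inv_eq_of_mul_eq_one_right hb
  rw [ha', hb'] at h
  refine ⟨h, ?_⟩
  rw [mul_inv_rev, ha', hb', h]
  calc b * a * b * (b * a) = b * a * (b * b) * a := by group
    _ = b := by rw [hb, mul_one, mul_assoc, ha, mul_one]

theorem comp_cls {x : G} (hx : x ∈ Comp d) : ∃ m ∈ compGroup d, m * d * m⁻¹ = x := by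
  have braid : ∀ {a b : G}, a ∈ Comp d → b ∈ Comp d → ¬ Commute a b →
      (a * b) * a * (a * b)⁻¹ = b := fun {a b} ha hb hab =>
    (conj_braid (R.sq_of_mem ha.1) (R.sq_of_mem hb.1) (R.near_braid ha.1 hb.1 (R.comp_near ha hb) hab)).2
  by_cases hdx : Commute d x
  · by_cases hxd : x = d
    · exact ⟨1, one_mem _, by rw [hxd]; group⟩
    have hxl : x ∈ link (conjugatesOf d) d := ⟨hx.1, hxd, hdx⟩
    obtain ⟨v, hv, huv, hvu⟩ := exists_perp_point R.hF (R.isPt_vec hxl).1
    obtain ⟨p, hp⟩ := U6.exists_pt R.hF hv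
    obtain ⟨e, he, rfl⟩ := R.exists_link hp
    have hex : Commute e x := (R.commute_of_pts he hxl hp (R.isPt_vec hxl)).2 ((comm_zero R.hF).1 huv)
    have hne : e ≠ x := by
      rintro rfl
      obtain ⟨c, -, hc⟩ := IsPt.span_eq R.hF (R.isPt_vec hxl) hp
      exact hvu c hc
    obtain ⟨E⟩ := R.at' he.1
    have hD := class_eq he.1
    have hde : d ∈ link (conjugatesOf e) e := ⟨hD ▸ IsConj.refl d, he.2.1.symm, he.2.2.symm⟩
    have hxe : x ∈ link (conjugatesOf e) e := ⟨hD ▸ hx.1, hne.symm, hex⟩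
    obtain ⟨σ, hσ⟩ := exists_sigma R.hF
    obtain ⟨z, hz, hzu, hzv⟩ := CfsgLib.Transvec.Unitary.exists_iso_avoid (PSUAut.hU (n := 6) R.hF hσ)
      (by simp) (E.isPt_vec hde).1.1 (E.isPt_vec hxe).1.1
    have hz0 : z ≠ 0 := fun h => hzu (by rw [h, zero_left R.hF])
    obtain ⟨o, ho⟩ := U6.exists_pt R.hF (v := z) ⟨hz0, hz⟩
    obtain ⟨w, hw, rfl⟩ := E.exists_link ho
    have hwc : w ∈ Comp d := R.comp_mem_of_commute (link_subset_comp he) (hD ▸ hw.1) hw.2.2
    have h1 : ¬ Commute d w := fun h => hzu ((E.commute_of_pts hw hde ho (E.isPt_vec hde)).1 h.symm)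
    have h2 : ¬ Commute w x := fun h => hzv ((E.commute_of_pts hw hxe ho (E.isPt_vec hxe)).1 h)
    refine ⟨(w * x) * (d * w), mul_mem (mul_mem (comp_le hwc) (comp_le hx))
      (mul_mem (comp_le (self_mem_comp d)) (comp_le hwc)), ?_⟩
    calc w * x * (d * w) * d * (w * x * (d * w))⁻¹ = w * x * ((d * w) * d * (d * w)⁻¹) * (w * x)⁻¹ := by group
      _ = x := by rw [braid (self_mem_comp d) hwc h1, braid hwc hx h2]
  · exact ⟨d * x, mul_mem (comp_le (self_mem_comp d)) (comp_le hx), braid (self_mem_comp d) hx hdx⟩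

/-- An element moving `d` within the component is in the group of the component. -/
theorem mem_compGroup {g : G} (hg : g * d * g⁻¹ ∈ Comp d) : g ∈ compGroup d := by
  obtain ⟨m, hm, he⟩ := R.comp_cls hg
  have : m⁻¹ * g ∈ Subgroup.centralizer ({d} : Set G) := Subgroup.mem_centralizer_singleton_iff.2 (by
    calc m⁻¹ * g * d = m⁻¹ * (g * d * g⁻¹) * g := by group
      _ = d * (m⁻¹ * g) := by rw [← he]; group)
  simpa using mul_mem hm (R.centralizer_le this)

theorem compSet_tt : IsTT (compSet d) := by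
  refine ⟨fun x hx => Subtype.ext (R.sq_of_mem hx.1), fun x hx h => R.ne_one_of_mem hx.1 (congrArg Subtype.val h),
    fun x hx y hy => ?_, fun g x hx => R.group_conj g.2 hx⟩
  by_cases h : Commute (x : G) y
  · exact Or.inl (Subtype.ext h)
  · exact Or.inr (Subtype.ext
      (conj_braid (R.sq_of_mem hx.1) (R.sq_of_mem hy.1) (R.near_braid hx.1 hy.1 (R.comp_near hx hy) h)).1)

omit R [Finite G] in
theorem compSet_gen : Subgroup.closure (compSet d) = ⊤ := by
  refine eq_top_iff.2 fun x _ => ?_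
  obtain ⟨x, hx⟩ := x
  have hle : compGroup d ≤ (Subgroup.closure (compSet d)).map (compGroup d).subtype := by
    refine (Subgroup.closure_le _).2 fun y hy => ?_
    exact ⟨⟨y, comp_le hy⟩, Subgroup.subset_closure hy, rfl⟩
  obtain ⟨y, hy, he⟩ := hle hx
  rwa [show (⟨x, hx⟩ : ↥(compGroup d)) = y from Subtype.ext he.symm]

omit [Finite G] in
/-- A member of the link that does not commute with a given one. -/
theorem exists_noncomm [Finite G] {x : G} (hx : x ∈ link (conjugatesOf d) d) :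
    ∃ w ∈ link (conjugatesOf d) d, ¬ Commute x w := by
  obtain ⟨z, hz, hzu⟩ := exists_iso_off R.hF (R.isPt_vec hx).1.1
  obtain ⟨o, ho⟩ := U6.exists_pt R.hF hz
  obtain ⟨w, hw, rfl⟩ := R.exists_link ho
  exact ⟨w, hw, fun h => hzu ((R.commute_of_pts hw hx ho (R.isPt_vec hx)).1 h.symm)⟩

/-- The conjugates in the component that commute with nothing central. -/
theorem exists_far : ∃ c ∈ Comp d, ¬ Commute d c := by
  obtain ⟨v, hv⟩ := exists_point R.hF
  obtain ⟨p, hp⟩ := U6.exists_pt R.hF hv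
  obtain ⟨e, he, rfl⟩ := R.exists_link hp
  obtain ⟨E⟩ := R.at' he.1
  have hD := class_eq he.1
  obtain ⟨w, hw, hwd⟩ := E.exists_noncomm (x := d) ⟨hD ▸ IsConj.refl d, he.2.1.symm, he.2.2.symm⟩
  exact ⟨w, R.comp_mem_of_commute (link_subset_comp he) (hD ▸ hw.1) hw.2.2, hwd⟩

theorem center_pi {c : ↥(Subgroup.centralizer ({d} : Set G))}
    (hc : ∀ x ∈ link (conjugatesOf d) d, Commute (c : G) x) :
    R.π c = 1 := by
  haveI : IsSimpleGroup (Cfsg.PSU 6 F 2) :=
    CfsgLib.Classical.Unitary.isSimpleGroup_PSU (by rw [R.hF]) (by norm_num) (by norm_num)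
  have hz : R.π c ∈ Subgroup.center (Cfsg.PSU 6 F 2) := by
    refine Subgroup.mem_center_iff.2 fun q => ?_
    obtain ⟨h, rfl⟩ := R.W.surj q
    rw [← map_mul, ← map_mul]
    congr 1
    have hh : (h : G) ∈ Subgroup.closure (link (conjugatesOf d) d) := R.closure_link.symm ▸ h.2
    have : ∀ k : G, k ∈ Subgroup.closure (link (conjugatesOf d) d) → Commute (c : G) k := by
      intro k hk
      induction hk using Subgroup.closure_induction with
      | mem x hx => exact hc x hx
      | one => exact Commute.one_right _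
      | mul u v _ _ h1 h2 => exact h1.mul_right h2
      | inv u _ h1 => exact h1.inv_right
    exact Subtype.ext (this h hh).symm.eq
  rcases (show (Subgroup.center (Cfsg.PSU 6 F 2)).Normal from inferInstance).eq_bot_or_eq_top with h | h
  · rwa [h, Subgroup.mem_bot] at hz
  · exfalso
    obtain ⟨v, hv⟩ := exists_point R.hF
    obtain ⟨p, hp⟩ := U6.exists_pt R.hF hv
    obtain ⟨x, hx, rfl⟩ := R.exists_link hp
    obtain ⟨w, hw, hnc⟩ := R.exists_noncomm hx
    refine hnc ((R.commute_iff hx hw).2 ((IsPt.commute_iff R.hF (R.isPt_vec hx) (R.isPt_vec hw)).1 ?_))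
    exact Subgroup.mem_center_iff.1 (h ▸ Subgroup.mem_top (R.π (R.toC hw))) (R.π (R.toC hx))

/-- The group of the component is of type `M(22)` with the component as its class. -/
theorem compSetup : M22.Setup (compSet d) := by
  have hcls : ∀ x ∈ compSet d, ∀ y ∈ compSet d, ∃ g : ↥(compGroup d), g * x * g⁻¹ = y := by
    intro x hx y hy
    obtain ⟨m, hm, he⟩ := R.comp_cls hx
    obtain ⟨n, hn, he'⟩ := R.comp_cls hy
    refine ⟨⟨n * m⁻¹, mul_mem hn (inv_mem hm)⟩, Subtype.ext ?_⟩
    show n * m⁻¹ * (x : G) * (n * m⁻¹)⁻¹ = y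
    rw [← he, ← he']
    group
  set d' : ↥(compGroup d) := ⟨d, comp_le (self_mem_comp d)⟩ with hd'
  have hd'm : d' ∈ compSet d := self_mem_comp d
  obtain ⟨c, hc, hdc⟩ := R.exists_far
  have hc' : (⟨c, comp_le hc⟩ : ↥(compGroup d)) ∈ compSet d := hc
  have hdc' : ¬ Commute d' ⟨c, comp_le hc⟩ := fun h => hdc (congrArg Subtype.val h.eq)
  have httc : SporMisc.TTC (compSet d) :=
    ⟨R.compSet_tt, compSet_gen, hcls, d', hd'm, _, hc', fun e => hdc' (e ▸ Commute.refl _)⟩
  -- the link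
  have hlink : ∀ x : ↥(compGroup d), x ∈ link (compSet d) d' ↔ (x : G) ∈ link (conjugatesOf d) d := fun x =>
    ⟨fun h => ⟨h.1.1, fun e => h.2.1 (Subtype.ext e), congrArg Subtype.val h.2.2.eq⟩,
      fun h => ⟨link_subset_comp h, fun e => h.2.1 (congrArg Subtype.val e), Subtype.ext h.2.2.eq⟩⟩
  have himg : (Subgroup.closure (link (compSet d) d')).map (compGroup d).subtype =
      Subgroup.centralizer ({d} : Set G) := by
    rw [MonoidHom.map_closure, ← R.closure_link]
    congr 1
    ext x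
    constructor
    · rintro ⟨y, hy, rfl⟩; exact (hlink y).1 hy
    · intro hx; exact ⟨⟨x, comp_le (link_subset_comp hx)⟩, (hlink _).2 hx, rfl⟩
  let e₁ : ↥(Subgroup.closure (link (compSet d) d')) ≃* ↥(Subgroup.centralizer ({d} : Set G)) :=
    (Subgroup.equivMapOfInjective _ _ (compGroup d).subtype_injective).trans (MulEquiv.subgroupCongr himg)
  let ψ : ↥(Subgroup.closure (link (compSet d) d')) →* Cfsg.PSU 6 F 2 := R.π.comp e₁.toMonoidHom
  have hψ : ψ.ker = Subgroup.center ↥(Subgroup.closure (link (compSet d) d')) := by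
    ext x
    rw [MonoidHom.mem_ker, Subgroup.mem_center_iff]
    constructor
    · intro hx y
      apply e₁.injective
      rw [map_mul, map_mul]
      have hx' : R.π (e₁ x) = 1 := hx
      rcases R.W.ker _ hx' with h | h <;> rw [h]
      · rw [mul_one, one_mul]
      · exact (R.W.cent _).eq.symm
    · intro hx
      refine R.center_pi fun y hy => ?_
      have h1 := congrArg e₁ (hx (e₁.symm ⟨y, Subgroup.mem_centralizer_singleton_iff.2 hy.2.2.symm.eq⟩))
      rw [map_mul, map_mul, MulEquiv.apply_symm_apply] at h1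
      exact (congrArg Subtype.val h1).symm
  let e₂ := (QuotientGroup.quotientMulEquivOfEq hψ.symm).trans
    (QuotientGroup.quotientKerEquivOfSurjective ψ (R.W.surj.comp e₁.surjective))
  have hcenter : Subgroup.center ↥(compGroup d) = ⊥ := by
    refine eq_bot_iff.2 fun x hx => ?_
    rw [Subgroup.mem_bot]
    have hxc : ∀ y : ↥(compGroup d), Commute (x : G) y := fun y =>
      (congrArg Subtype.val (Subgroup.mem_center_iff.1 hx y)).symm
    have hxC : (x : G) ∈ Subgroup.centralizer ({d} : Set G) := Subgroup.mem_centralizer_singleton_iff.2 (hxc d').eq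
    have hπ := R.center_pi (c := ⟨x, hxC⟩) fun y hy => hxc ⟨y, comp_le (link_subset_comp hy)⟩
    rcases R.W.ker _ hπ with h | h
    · exact Subtype.ext (Subtype.mk_eq_mk.1 h)
    · exfalso
      have hxd : (x : G) = d := congrArg Subtype.val h
      exact hdc (hxd ▸ hxc ⟨c, comp_le hc⟩)
  refine ⟨R.compSet_tt, compSet_gen, ?_, hcenter, d', hd'm, _, hc', hdc', F, inferInstance, inferInstance,
    by rw [R.hF]; norm_num, ⟨e₂⟩⟩
  haveI : IsSimpleGroup (Cfsg.PSU 6 F 2) :=
    CfsgLib.Classical.Unitary.isSimpleGroup_PSU (by rw [R.hF]) (by norm_num) (by norm_num)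
  haveI : Nontrivial (↥(linkSub (compSet d) d') ⧸ Subgroup.center ↥(linkSub (compSet d) d')) :=
    e₂.toEquiv.nontrivial
  refine ThreeTransp.Factor.primitive_of_simple_link httc hd'm
    (IsSimpleGroup.isSimpleGroup_of_surjective e₂.symm.toMonoidHom e₂.symm.surjective) ?_
  intro a ha b hb
  refine (ThreeTransp.comp_eq_of_mem (fun _ _ h => h.symm) ?_).symm
  rcases R.comp_near ha hb with h | ⟨e, he, h1, h2⟩
  · exact Relation.ReflTransGen.single ⟨ha, hb, Subtype.ext h⟩
  · have hec : e ∈ Comp d := R.comp_mem_of_commute ha he h1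
    exact (Relation.ReflTransGen.single (r := fun u v => u ∈ compSet d ∧ v ∈ compSet d ∧ Commute u v)
      (a := a) (b := ⟨e, comp_le hec⟩) ⟨ha, hec, Subtype.ext h1⟩).tail ⟨hec, hb, Subtype.ext h2⟩

end Rec

end CfsgLib.U6Recog
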