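import Cfsg.Agent.Lib.ThreeTransp.U6Plane.Thompson
import Cfsg.Agent.Lib.ThreeTransp.M22Invol

/-!
# Recognition from the centraliser `2.U₆(2)` of an involution: the conjugates commuting with a given one

Those other than `d` are one lift of each point; so commuting ones are orthogonal points, the others braid,
they generate the centraliser and no product of two or three commuting conjugates is a conjugate.
-/

set_option autoImplicit false

namespace CfsgLib.U6Recog

open Cfsg CfsgLib.U6 CfsgLib.U6.Plane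
open scoped commutatorElement
open CfsgLib.ThreeTransp (link)
open CfsgLib.PSUAut (Isot act)
open CfsgLib.UnitarySpec (psuMk)

variable {G : Type*} [Group G]
variable {F : Type} [Field F] [Fintype F]

local notation "H6" => Cfsg.hermForm 6 F 2

/-- The centraliser of `d` is a perfect double cover of `PSU₆(2)` and `d` commutes with another conjugate. -/
structure Rec (d : G) (F : Type) [Field F] [Fintype F] where
  hF : Fintype.card F = 2 ^ 2
  ord : orderOf d = 2
  π : ↥(Subgroup.centralizer ({d} : Set G)) →* Cfsg.PSU 6 F 2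
  W : DCover π ⟨d, Subgroup.mem_centralizer_singleton_iff.2 rfl⟩
  perf : commutator ↥(Subgroup.centralizer ({d} : Set G)) = ⊤
  nwc : ∃ g : G, g * d * g⁻¹ ∈ Subgroup.centralizer ({d} : Set G) ∧ g * d * g⁻¹ ≠ d

theorem pt_ne_one (hF : Fintype.card F = 2 ^ 2) {x : Cfsg.PSU 6 F 2} {u : Fin 6 → F} (hx : IsPt x u) : x ≠ 1 := by
  obtain ⟨σ, hσ⟩ := exists_sigma hF
  obtain ⟨hu, t, ht, rfl⟩ := hx
  intro h
  obtain ⟨y, hy⟩ := PSUAut.exists_partner hF hσ hu.1
  have := act_eq_self hF h hu.1 (by rw [ht, hu.2, zero_smul, add_zero]) y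
  rw [ht, hy, one_smul, add_eq_left] at this
  exact hu.1 this

theorem exists_point (hF : Fintype.card F = 2 ^ 2) : ∃ v : Fin 6 → F, Isot 2 v := by
  obtain ⟨z, hz, -⟩ := exists_iso_off hF (u := Pi.single 0 1) (by simp)
  exact ⟨z, hz⟩

namespace Rec

variable {d : G}

theorem cent_conj {k w : G} : w ∈ Subgroup.centralizer ({k * d * k⁻¹} : Set G) ↔
    k⁻¹ * w * k ∈ Subgroup.centralizer ({d} : Set G) := by
  rw [Subgroup.mem_centralizer_singleton_iff, Subgroup.mem_centralizer_singleton_iff]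
  constructor
  · intro h
    calc k⁻¹ * w * k * d = k⁻¹ * (w * (k * d * k⁻¹)) * k := by group
      _ = d * (k⁻¹ * w * k) := by rw [h]; group
  · intro h
    calc w * (k * d * k⁻¹) = k * (k⁻¹ * w * k * d) * k⁻¹ := by group
      _ = k * d * k⁻¹ * w := by rw [h]; group

/-- Transport to a conjugate. -/
theorem move (R : Rec d F) (k : G) : Nonempty (Rec (k * d * k⁻¹) F) := by
  let σ : ↥(Subgroup.centralizer ({k * d * k⁻¹} : Set G)) ≃* ↥(Subgroup.centralizer ({d} : Set G)) :=
    { toFun := fun w => ⟨k⁻¹ * w * k, cent_conj.1 w.2⟩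
      invFun := fun w => ⟨k * w * k⁻¹, cent_conj.2 (by simp [mul_assoc])⟩
      left_inv := fun w => Subtype.ext (by simp [mul_assoc])
      right_inv := fun w => Subtype.ext (by simp [mul_assoc])
      map_mul' := fun u v => Subtype.ext (by simp [mul_assoc]) }
  have hz : σ ⟨k * d * k⁻¹, Subgroup.mem_centralizer_singleton_iff.2 rfl⟩ =
      ⟨d, Subgroup.mem_centralizer_singleton_iff.2 rfl⟩ := Subtype.ext (by
    show k⁻¹ * (k * d * k⁻¹) * k = d
    group)
  refine ⟨⟨R.hF, ?_, R.π.comp σ.toMonoidHom, ⟨R.W.surj.comp σ.surjective, ?_, ?_, ?_, ?_⟩, ?_, ?_⟩⟩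
  · rw [← R.ord]
    exact (MulAut.conj k).orderOf_eq d
  · intro h hh
    rcases R.W.ker _ hh with e | e
    · exact Or.inl (σ.injective (e.trans σ.map_one.symm))
    · exact Or.inr (σ.injective (e.trans hz.symm))
  · show R.π (σ _) = 1
    rw [hz]; exact R.W.map_z
  · intro h
    apply σ.injective
    rw [map_mul, map_mul, hz]
    exact R.W.cent _
  · apply σ.injective
    rw [map_mul, map_one, hz]
    exact R.W.sq
  · refine eq_top_iff.2 fun x _ => ?_
    obtain ⟨y, rfl⟩ := σ.symm.surjective x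
    have hy : σ.symm.toMonoidHom y ∈
        (commutator ↥(Subgroup.centralizer ({d} : Set G))).map σ.symm.toMonoidHom :=
      Subgroup.mem_map_of_mem _ (R.perf ▸ Subgroup.mem_top y)
    rw [_root_.commutator_def, Subgroup.map_commutator] at hy
    exact Subgroup.commutator_mono le_top le_top hy
  · obtain ⟨g, hg, hne⟩ := R.nwc
    refine ⟨k * g * k⁻¹, cent_conj.2 ?_, fun e => hne ?_⟩
    · convert hg using 1; group
    · calc g * d * g⁻¹ = k⁻¹ * (k * g * k⁻¹ * (k * d * k⁻¹) * (k * g * k⁻¹)⁻¹) * k := by group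
        _ = d := by rw [e]; group

/-- The element of the centraliser. -/
abbrev toC (_R : Rec d F) {x : G} (hx : x ∈ link (conjugatesOf d) d) : ↥(Subgroup.centralizer ({d} : Set G)) :=
  ⟨x, Subgroup.mem_centralizer_singleton_iff.2 hx.2.2.symm.eq⟩

variable (R : Rec d F)
include R

theorem sq : d * d = 1 := by rw [← pow_two, ← R.ord, pow_orderOf_eq_one]

theorem ne_one : d ≠ 1 := fun h => by
  have := R.ord
  rw [h, orderOf_one] at this
  norm_num at this

theorem sq_of_mem {x : G} (hx : x ∈ conjugatesOf d) : x * x = 1 := by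
  obtain ⟨g, rfl⟩ := isConj_iff.1 hx
  rw [show g * d * g⁻¹ * (g * d * g⁻¹) = g * (d * d) * g⁻¹ by group, R.sq, mul_one, mul_inv_cancel]

theorem ne_one_of_mem {x : G} (hx : x ∈ conjugatesOf d) : x ≠ 1 := by
  obtain ⟨g, rfl⟩ := isConj_iff.1 hx
  exact fun h => R.ne_one (conj_eq_one_iff.1 h)

theorem at' {a : G} (ha : a ∈ conjugatesOf d) : Nonempty (Rec a F) := by
  obtain ⟨g, rfl⟩ := isConj_iff.1 ha
  exact R.move g

omit R in
theorem class_eq {a : G} (ha : a ∈ conjugatesOf d) : conjugatesOf a = conjugatesOf d :=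
  (IsConj.conjugatesOf_eq ha).symm

variable [Finite G]

/-- An element over an involution or over `1` is a conjugate of `d` only over `1` or a point, and then there
is exactly one over each. -/
theorem kinds : (∀ h : ↥(Subgroup.centralizer ({d} : Set G)), IsConj d (h : G) → (h : G) ≠ d →
      ∃ u, IsPt (R.π h) u) ∧
    ∀ (x : Cfsg.PSU 6 F 2) (u : Fin 6 → F), IsPt x u → fib R.π x = 1 := by
  classical
  obtain ⟨K⟩ := exists_coord R.hF
  haveI : Fact (Nat.Prime 2) := ⟨Nat.prime_two⟩
  let P : Sylow 2 ↥(Subgroup.centralizer ({d} : Set G)) := Classical.arbitrary _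
  obtain ⟨-, -, -, -, hfib⟩ := thompson_full K R.hF R.ord R.π R.W R.perf R.nwc P _ rfl
  -- the exemplar of rank one is a point
  set E₁ : Her := (true, false, false, 0, 0, 0)
  have hE₁ : rk E₁ = 1 ∧ E₁ ≠ X0 := by decide +kernel
  have hpt : ∃ u, IsPt (K.t g0 E₁) u := by
    set T := K.el g0 E₁
    let N : (Fin 6 → F) →ₗ[F] (Fin 6 → F) := ((T.1 : Matrix (Fin 6) (Fin 6) F) - 1).mulVecLin
    have hNy : ∀ y, N y = act T y + y := by
      intro y
      show Matrix.mulVec ((T.1 : Matrix (Fin 6) (Fin 6) F) - 1) y = _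
      rw [Matrix.sub_mulVec, Matrix.one_mulVec, sub_eq_iff_eq_add, add_assoc, vadd_self R.hF, add_zero]
      rfl
    have hTy : ∀ y, act T y = y + N y := fun y => by
      rw [hNy, ← add_assoc, add_comm y (act T y), add_assoc, vadd_self R.hF, add_zero]
    have hTT' : ∀ y, act T (act T y) = y := fun y => by
      rw [← PSUAut.act_mul, K.el_sq R.hF, PSUAut.act_one]
    have hN : ∀ y, N (N y) = 0 := fun y => by
      rw [hNy, hNy, PSUAut.act_add, hTT', add_comm y (act T y)]
      exact vadd_self R.hF _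
    have hadj : ∀ u v, H6 v (N u) = H6 (N v) u := by
      intro u v
      rw [hNy, hNy, add_right R.hF, add_left R.hF]
      congr 1
      rw [← PSUAut.act_form T, hTT']
    obtain ⟨k, f, hk, hfl, hff, hNf, -⟩ := CfsgLib.Known.UnitaryInvolution.exists_frame R.hF N hN hadj
    obtain rfl : k = 1 := hk.symm.trans ((K.rank_el R.hF E₁).trans hE₁.1)
    exact ⟨f 0, ⟨hfl.ne_zero 0, hff 0 0⟩, T, fun y => by rw [hTy, hNf, Fin.sum_univ_one], rfl⟩
  obtain ⟨u₁, hu₁⟩ := hpt
  refine ⟨fun h hd hne => ?_, fun x u hx => ?_⟩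
  · have h1 : R.π h ≠ 1 := fun e => by
      rcases R.W.ker h e with r | r
      · exact R.ne_one_of_mem hd (congrArg Subtype.val r)
      · exact hne (congrArg Subtype.val r)
    have h2 : R.π h * R.π h = 1 := by
      rw [← map_mul, show h * h = 1 from Subtype.ext (R.sq_of_mem hd), map_one]
    obtain ⟨Y, hY, hc⟩ := K.exists_conj_plane R.hF h2 h1
    have hpos : 0 < fib R.π (K.t g0 Y) := by
      rw [fib_isConj R.π R.W.surj hc]
      exact (Set.ncard_pos (Set.toFinite _)).2 ⟨h, rfl, hd⟩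
    rw [hfib Y hY] at hpos
    have hr : rk Y = 1 := by
      by_contra e
      rw [if_neg e] at hpos
      exact lt_irrefl 0 hpos
    obtain ⟨g, hg⟩ := isConj_iff.1 ((K.isConj_of_rk R.hF hE₁.2 (hE₁.1.trans hr.symm)).trans hc.symm)
    obtain ⟨s, rfl⟩ := QuotientGroup.mk'_surjective _ g
    exact ⟨_, hg ▸ hu₁.conj R.hF s⟩
  · obtain ⟨g, hg⟩ := IsPt.exists_conj R.hF hu₁ hx
    rw [fib_isConj R.π R.W.surj (isConj_iff.2 ⟨g, hg⟩), hfib E₁ hE₁.2, if_pos hE₁.1]

/-- A point of the link. -/
theorem exists_pt {x : G} (hx : x ∈ link (conjugatesOf d) d) : ∃ u, IsPt (R.π (R.toC hx)) u :=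
  R.kinds.1 _ hx.1 hx.2.1

/-- The centre of the point of a member of the link. -/
noncomputable def vec {x : G} (hx : x ∈ link (conjugatesOf d) d) : Fin 6 → F := (R.exists_pt hx).choose

theorem isPt_vec {x : G} (hx : x ∈ link (conjugatesOf d) d) : IsPt (R.π (R.toC hx)) (R.vec hx) :=
  (R.exists_pt hx).choose_spec

theorem link_ext {x y : G} (hx : x ∈ link (conjugatesOf d) d) (hy : y ∈ link (conjugatesOf d) d)
    (h : R.π (R.toC hx) = R.π (R.toC hy)) : x = y := by
  have h1 := R.kinds.2 _ _ (R.isPt_vec hx)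
  obtain ⟨u, hu⟩ := Set.ncard_eq_one.1 h1
  have e1 : R.toC hx = u := (Set.ext_iff.1 hu _).1 ⟨rfl, hx.1⟩
  have e2 : R.toC hy = u := (Set.ext_iff.1 hu _).1 ⟨h.symm, hy.1⟩
  exact congrArg Subtype.val (e1.trans e2.symm)

theorem exists_link {p : Cfsg.PSU 6 F 2} {u : Fin 6 → F} (hp : IsPt p u) :
    ∃ (x : G) (hx : x ∈ link (conjugatesOf d) d), R.π (R.toC hx) = p := by
  obtain ⟨h, hh⟩ := Set.ncard_eq_one.1 (R.kinds.2 _ _ hp)
  obtain ⟨h1, h2⟩ : R.π h = p ∧ IsConj d (h : G) := (Set.ext_iff.1 hh h).2 rfl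
  refine ⟨h, ⟨h2, fun e => ?_, (Subgroup.mem_centralizer_singleton_iff.1 h.2).symm⟩, ?_⟩
  · have : R.π h = 1 := (congrArg R.π (Subtype.ext e : h = _)).trans R.W.map_z
    exact pt_ne_one R.hF hp (h1.symm.trans this)
  · exact h1

theorem commute_iff {x y : G} (hx : x ∈ link (conjugatesOf d) d) (hy : y ∈ link (conjugatesOf d) d) :
    Commute x y ↔ H6 (R.vec hx) (R.vec hy) = 0 := by
  refine ⟨fun h => (IsPt.commute_iff R.hF (R.isPt_vec hx) (R.isPt_vec hy)).1 ?_, fun h => ?_⟩
  · exact (show Commute (R.toC hx) (R.toC hy) from Subtype.ext h).map R.π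
  · exact congrArg Subtype.val (R.W.commute_lift R.hF (R.isPt_vec hx) (R.isPt_vec hy) h
      (T := R.toC hx) (U := R.toC hy) rfl rfl).eq

theorem vec_cases {x : G} (hx : x ∈ link (conjugatesOf d) d) {u : Fin 6 → F} (hu : IsPt (R.π (R.toC hx)) u) :
    ∃ a : F, a ≠ 0 ∧ u = a • R.vec hx :=
  IsPt.span_eq R.hF (R.isPt_vec hx) hu

/-- A conjugate of a member of the link. -/
theorem conj_link {x y : G} (hx : x ∈ link (conjugatesOf d) d) (hy : y ∈ link (conjugatesOf d) d) :
    x * y * x⁻¹ ∈ link (conjugatesOf d) d :=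
  ⟨hy.1.trans (isConj_iff.2 ⟨x, rfl⟩), fun e => hy.2.1 (by
    calc y = x⁻¹ * (x * y * x⁻¹) * x := by group
      _ = x⁻¹ * (x * d) := by rw [e, mul_assoc, ← hx.2.2.symm.eq]
      _ = d := by group), (hx.2.2.mul_right hy.2.2).mul_right hx.2.2.inv_right⟩

/-- The point of a conjugate. -/
theorem vec_conj {x y : G} (hx : x ∈ link (conjugatesOf d) d) (hy : y ∈ link (conjugatesOf d) d) :
    IsPt (R.π (R.toC (R.conj_link hx hy))) (R.vec hy + H6 (R.vec hy) (R.vec hx) • R.vec hx) := by
  obtain ⟨-, t, ht, htx⟩ := R.isPt_vec hx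
  have := (R.isPt_vec hy).conj R.hF t
  rw [ht, htx] at this
  rwa [← map_inv, ← map_mul, ← map_mul] at this

/-- Members of a link that do not commute satisfy the braid relation. -/
theorem braid {x y : G} (hx : x ∈ link (conjugatesOf d) d) (hy : y ∈ link (conjugatesOf d) d)
    (h : ¬ Commute x y) : x * y * x⁻¹ = y * x * y⁻¹ := by
  refine R.link_ext (R.conj_link hx hy) (R.conj_link hy hx) ?_
  have h0 : H6 (R.vec hy) (R.vec hx) ≠ 0 := fun e => h ((R.commute_iff hy hx).2 e).symm
  set c := H6 (R.vec hy) (R.vec hx) with hc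
  have hc' : H6 (R.vec hx) (R.vec hy) = c ^ 2 := conj_form R.hF _ _
  refine IsPt.unique R.hF ((R.vec_conj hx hy).smul R.hF (pow_ne_zero 2 h0)) ?_
  have h2 := R.vec_conj hy hx
  rw [hc'] at h2
  rw [show c ^ 2 • (R.vec hy + c • R.vec hx) = R.vec hx + c ^ 2 • R.vec hy by
    rw [smul_add, smul_smul, show c ^ 2 * c = c ^ 3 by ring, cube_eq_one R.hF h0, one_smul]; abel]
  exact h2

/-- The link generates the centraliser. -/
theorem closure_link : Subgroup.closure (link (conjugatesOf d) d) = Subgroup.centralizer ({d} : Set G) := by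
  classical
  refine le_antisymm ((Subgroup.closure_le _).2 fun x hx =>
    Subgroup.mem_centralizer_singleton_iff.2 hx.2.2.symm.eq) ?_
  set L := (Subgroup.closure (link (conjugatesOf d) d)).subgroupOf (Subgroup.centralizer ({d} : Set G)) with hL
  have htop : L.map R.π = ⊤ := by
    haveI : IsSimpleGroup (Cfsg.PSU 6 F 2) :=
      CfsgLib.Classical.Unitary.isSimpleGroup_PSU (by rw [R.hF]) (by norm_num) (by norm_num)
    have hn : (L.map R.π).Normal := ⟨fun w hw g => by
      obtain ⟨h, hh, rfl⟩ := hw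
      obtain ⟨k, rfl⟩ := R.W.surj g
      refine ⟨k * h * k⁻¹, ?_, by rw [map_mul, map_mul, map_inv]⟩
      rw [SetLike.mem_coe, hL, Subgroup.mem_subgroupOf] at hh ⊢
      have hmap : (Subgroup.closure (link (conjugatesOf d) d)).map (MulAut.conj (k : G)).toMonoidHom ≤
          Subgroup.closure (link (conjugatesOf d) d) := by
        rw [MonoidHom.map_closure]
        refine Subgroup.closure_mono ?_
        rintro _ ⟨x, hx, rfl⟩
        refine ⟨hx.1.trans (isConj_iff.2 ⟨(k : G), rfl⟩), fun e => hx.2.1 ?_, ?_⟩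
        · change (k : G) * x * (k : G)⁻¹ = d at e
          calc x = (k : G)⁻¹ * ((k : G) * x * (k : G)⁻¹) * k := by group
            _ = (k : G)⁻¹ * ((k : G) * d) := by
              rw [e, mul_assoc, Subgroup.mem_centralizer_singleton_iff.1 k.2]
            _ = d := by group
        · have hk : Commute d (k : G) := (Subgroup.mem_centralizer_singleton_iff.1 k.2).symm
          exact (hk.mul_right hx.2.2).mul_right hk.inv_right
      exact hmap ⟨h, hh, rfl⟩⟩
    obtain ⟨v, hv⟩ := exists_point R.hF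
    obtain ⟨p, hp⟩ := U6.exists_pt R.hF hv
    obtain ⟨x, hx, hxp⟩ := R.exists_link hp
    refine hn.eq_bot_or_eq_top.resolve_left fun e => ?_
    have h1 : p ∈ L.map R.π := ⟨_, by rw [SetLike.mem_coe, hL, Subgroup.mem_subgroupOf]; exact Subgroup.subset_closure hx, hxp⟩
    rw [e, Subgroup.mem_bot] at h1
    exact pt_ne_one R.hF hp h1
  have hcomm : commutator ↥(Subgroup.centralizer ({d} : Set G)) ≤ L := by
    rw [_root_.commutator_def, Subgroup.commutator_le]
    intro a _ b _
    have hm : ∀ c : ↥(Subgroup.centralizer ({d} : Set G)), c ∈ L ∨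
        c * ⟨d, Subgroup.mem_centralizer_singleton_iff.2 rfl⟩ ∈ L := fun c => by
      obtain ⟨l, hl, e⟩ : R.π c ∈ L.map R.π := htop ▸ Subgroup.mem_top _
      rcases R.W.eq_or e with r | r
      · exact Or.inl (r ▸ hl)
      · refine Or.inr ?_
        rw [r, mul_assoc, R.W.sq, mul_one]; exact hl
    set z : ↥(Subgroup.centralizer ({d} : Set G)) := ⟨d, Subgroup.mem_centralizer_singleton_iff.2 rfl⟩
    have e1 : ∀ c, c * z = z * c := fun c => (R.W.cent c).eq.symm
    rcases hm a with ha | ha <;> rcases hm b with hb | hb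
    · exact mul_mem (mul_mem (mul_mem ha hb) (inv_mem ha)) (inv_mem hb)
    all_goals
      have kl : ∀ a b : ↥(Subgroup.centralizer ({d} : Set G)), ⁅a * z, b⁆ = ⁅a, b⁆ := fun a b => by
        rw [commutatorElement_def, commutatorElement_def, mul_assoc a z b, (show Commute z b from R.W.cent b).eq]; group
      have kr : ∀ a b : ↥(Subgroup.centralizer ({d} : Set G)), ⁅a, b * z⁆ = ⁅a, b⁆ := fun a b => by
        rw [commutatorElement_def, commutatorElement_def, show a * (b * z) * a⁻¹ = a * b * (z * a⁻¹) by group,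
          (show Commute z a⁻¹ from R.W.cent a⁻¹).eq]
        group
    · rw [← kr]; exact mul_mem (mul_mem (mul_mem ha hb) (inv_mem ha)) (inv_mem hb)
    · rw [← kl]; exact mul_mem (mul_mem (mul_mem ha hb) (inv_mem ha)) (inv_mem hb)
    · rw [← kl, ← kr]; exact mul_mem (mul_mem (mul_mem ha hb) (inv_mem ha)) (inv_mem hb)
  intro x hx
  have := hcomm (R.perf ▸ Subgroup.mem_top (⟨x, hx⟩ : ↥(Subgroup.centralizer ({d} : Set G))))
  rwa [hL, Subgroup.mem_subgroupOf] at this

/-- A product of two commuting conjugates is not a conjugate. -/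
theorem two_notMem {a b : G} (ha : a ∈ conjugatesOf d) (hb : b ∈ conjugatesOf d) (hab : Commute a b) (hne : a ≠ b) :
    a * b ∉ conjugatesOf d := by
  intro h
  obtain ⟨A⟩ := R.at' ha
  rw [← class_eq ha] at hb h
  have hbl : b ∈ link (conjugatesOf a) a := ⟨hb, hne.symm, hab⟩
  have hb1 : b ≠ 1 := A.ne_one_of_mem hb
  have hl : a * b ∈ link (conjugatesOf a) a :=
    ⟨h, fun e => hb1 (mul_left_cancel (e.trans (mul_one a).symm)), (Commute.refl a).mul_right hab⟩
  have := A.link_ext hl hbl (by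
    rw [show A.toC hl = ⟨a, Subgroup.mem_centralizer_singleton_iff.2 rfl⟩ * A.toC hbl from Subtype.ext rfl, map_mul,
      A.W.map_z, one_mul])
  exact A.ne_one (mul_eq_right.1 this)

/-- A product of three commuting conjugates is not a conjugate. -/
theorem three_notMem {a b c : G} (ha : a ∈ conjugatesOf d) (hb : b ∈ conjugatesOf d) (hc : c ∈ conjugatesOf d)
    (hab : Commute a b) (hac : Commute a c) (hbc : Commute b c) (h1 : a ≠ b) (h2 : a ≠ c) (h3 : b ≠ c) :
    a * b * c ∉ conjugatesOf d := by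
  intro h
  obtain ⟨A⟩ := R.at' ha
  rw [← class_eq ha] at hb hc h
  have hbl : b ∈ link (conjugatesOf a) a := ⟨hb, h1.symm, hab⟩
  have hcl : c ∈ link (conjugatesOf a) a := ⟨hc, h2.symm, hac⟩
  have hl : a * b * c ∈ link (conjugatesOf a) a := by
    refine ⟨h, fun e => h3 ?_, ((Commute.refl a).mul_right hab).mul_right hac⟩
    have h4 : b * c = 1 := mul_left_cancel (show a * (b * c) = a * 1 by rw [← mul_assoc, mul_one]; exact e)
    exact mul_right_cancel (h4.trans (A.sq_of_mem hc).symm)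
  have e : A.π (A.toC hl) = A.π (A.toC hbl) * A.π (A.toC hcl) := by
    rw [← map_mul, show A.toC hl = ⟨a, Subgroup.mem_centralizer_singleton_iff.2 rfl⟩ * (A.toC hbl * A.toC hcl) from
      Subtype.ext (mul_assoc a b c), map_mul _ _ (A.toC hbl * A.toC hcl), A.W.map_z, one_mul]
  have perp : ∀ {x y : G} (hx : x ∈ link (conjugatesOf a) a) (hy : y ∈ link (conjugatesOf a) a), Commute x y →
      H6 (A.vec hx) (A.vec hy) = 0 := fun hx hy h => (A.commute_iff hx hy).1 h
  have hπ : A.π (A.toC hbl) ≠ A.π (A.toC hcl) := fun e' => h3 (A.link_ext hbl hcl e')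
  refine three_ne_one A.hF (A.isPt_vec hbl) (A.isPt_vec hcl) (A.isPt_vec hl) (perp hbl hcl hbc)
    (perp hbl hl ((hab.symm.mul_right (Commute.refl b)).mul_right hbc))
    (perp hcl hl ((hac.symm.mul_right hbc.symm).mul_right (Commute.refl c))) hπ (fun e' => ?_) ?_
  · rw [e] at e'
    exact pt_ne_one A.hF (A.isPt_vec hcl) (left_eq_mul.1 e')
  · rw [e]
    have hcm : Commute (A.π (A.toC hbl)) (A.π (A.toC hcl)) := (show Commute (A.toC hbl) (A.toC hcl) from Subtype.ext hbc).map A.π
    rw [show A.π (A.toC hbl) * A.π (A.toC hcl) * (A.π (A.toC hbl) * A.π (A.toC hcl)) =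
      A.π (A.toC hbl) * A.π (A.toC hbl) * (A.π (A.toC hcl) * A.π (A.toC hcl)) from hcm.symm.mul_mul_mul_comm _ _,
      pt_mul_self A.hF (A.isPt_vec hbl), pt_mul_self A.hF (A.isPt_vec hcl), one_mul]

end Rec

end CfsgLib.U6Recog
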