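import Cfsg.Agent.Lib.ThreeTransp.U6Recog.Minus6Check
import Cfsg.Agent.Lib.Fi22P.O8Base
import Cfsg.Agent.Lib.ThreeTransp.Classes
import Cfsg.Agent.Lib.SporMisc.RefClassThree

/-!
In a group isomorphic to the presented Fischer group the members commuting with two non-commuting members
generate, modulo the centre, the projective reflection group of six variables over the field with three
elements with discriminant one.
-/

set_option autoImplicit false
set_option maxRecDepth 100000

namespace CfsgLib.Fi22P.Minus6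

open CfsgLib.PresCert CfsgLib.Fi22P CfsgLib.Fi22P.O8 Cfsg.Spor CfsgLib.Classical CfsgLib.SporMisc
open CfsgLib.ThreeTransp (link)

attribute [local irreducible] levels pts codes imgs pars idx genRoots

/-- The coordinate space. -/
abbrev V := Fin 6 → ZMod 3

/-- The sum of squares. -/
noncomputable def Q6 : QuadraticForm (ZMod 3) V :=
  QuadraticMap.weightedSumSquares (ZMod 3) (fun _ : Fin 6 => (1 : ZMod 3))

theorem Q6_apply (x : V) : Q6 x = ∑ i, x i * x i := by
  simp [Q6, QuadraticMap.weightedSumSquares_apply]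

theorem polar6 (x y : V) : QuadraticMap.polar Q6 x y = 2 * ∑ i, x i * y i := by
  simp only [QuadraticMap.polar, Q6_apply, Pi.add_apply, Fin.sum_univ_six]
  ring

theorem nondeg : (QuadraticMap.polarBilin Q6).Nondegenerate := by
  have key : ∀ v : V, (∀ w, QuadraticMap.polar Q6 v w = 0) → v = 0 := by
    intro v hv
    funext i
    have h := hv (Pi.single i 1)
    rw [polar6] at h
    have h2 : (2 : ZMod 3) ≠ 0 := by decide
    simpa [Pi.single_apply, h2] using h
  exact ⟨fun v hv => key v hv, fun v hv => key v fun w => (QuadraticMap.polar_comm _ _ _).trans (hv w)⟩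

theorem disc : Cfsg.polarGramDet (⇑Q6) = 1 := by
  have h : (Matrix.of fun i j : Fin 6 => QuadraticMap.polar (⇑Q6) (Pi.single i 1) (Pi.single j 1)) =
      Matrix.diagonal fun _ => (2 : ZMod 3) := by
    ext i j
    rw [Matrix.of_apply, polar6]
    by_cases hij : i = j
    · subst hij; simp [Pi.single_apply]
    · simp [hij, Ne.symm hij, Pi.single_apply]
  rw [Cfsg.polarGramDet, h, Matrix.det_diagonal]
  decide

/-- The vector of a point. -/
def vec (k : Fin 126) : V := fun i => (dig k.1 i.1 : ZMod 3)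

theorem vec_norm (k : Fin 126) : Q6 (vec k) = 1 := by
  have h := List.all_eq_true.1 vec_ok k.1 (List.mem_range.2 k.2)
  simp only [Bool.and_eq_true, Nat.beq_eq] at h
  have h1 := congrArg (fun n : ℕ => (n : ZMod 3)) h.1.1
  simpa [dotN, Q6_apply, vec, ZMod.natCast_mod, Fin.sum_univ_six] using h1

/-- The code of a vector. -/
def codeV (w : V) : ℕ := code fun i => if h : i < 6 then (w ⟨i, h⟩).val else 0

theorem codeV_vec (k : Fin 126) : codeV (vec k) = code (dig k.1) := by
  simp [codeV, code, vec, ZMod.val_natCast]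

theorem codeV_neg (k : Fin 126) : codeV (-vec k) = code fun i => 2 * dig k.1 i := by
  have e : ∀ n : ℕ, ((-(n : ZMod 3)).val) = (2 * n) % 3 := fun n => by
    rw [← ZMod.val_natCast]
    congr 1
    have h : (3 : ZMod 3) = 0 := by decide
    push_cast
    linear_combination -(n : ZMod 3) * h
  simp [codeV, code, vec, e]

theorem vec_inj {k k' : Fin 126} (h : vec k' = vec k ∨ vec k' = -vec k) : k' = k := by
  have hk := List.all_eq_true.1 vec_ok k.1 (List.mem_range.2 k.2)
  have hk' := List.all_eq_true.1 vec_ok k'.1 (List.mem_range.2 k'.2)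
  simp only [Bool.and_eq_true, Nat.beq_eq] at hk hk'
  refine Fin.ext ?_
  rw [← hk'.1.2]
  rcases h with h | h
  · rw [← codeV_vec, h, codeV_vec, hk.1.2]
  · rw [← codeV_vec, h, codeV_neg, hk.2]

theorem vec_cover {w : V} (hw : Q6 w = 1) : ∃ k, w = vec k ∨ w = -vec k := by
  obtain ⟨c, hc⟩ : ∃ c, c = codeV w := ⟨_, rfl⟩
  have b : ∀ (u : V) (j : Fin 6), (u j).val < 3 := fun u j => (u j).val_lt
  have := b w 0; have := b w 1; have := b w 2; have := b w 3; have := b w 4; have := b w 5
  have hlt : c < 729 := by simp only [hc, codeV, code]; omega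
  have hdig : ∀ i : Fin 6, c / 3 ^ i.1 % 3 = (w i).val := by
    intro i
    subst hc
    fin_cases i <;> simp [codeV, code] <;> omega
  have hinj : ∀ u : V, codeV u = c → w = u := by
    intro u hu
    have := b u 0; have := b u 1; have := b u 2; have := b u 3; have := b u 4; have := b u 5
    funext i
    apply ZMod.val_injective
    rw [← hdig i]
    subst hu
    fin_cases i <;> simp [codeV, code] <;> omega
  have h := List.all_eq_true.1 cover_ok c (List.mem_range.2 hlt)
  simp only [Bool.or_eq_true, Bool.and_eq_true, Bool.not_eq_true', Nat.blt_eq, Nat.beq_eq] at h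
  rcases h with h | ⟨hk, h⟩
  · exfalso
    have hn : ((c / 3 ^ 0 % 3) * (c / 3 ^ 0 % 3) + (c / 3 ^ 1 % 3) * (c / 3 ^ 1 % 3) +
        (c / 3 ^ 2 % 3) * (c / 3 ^ 2 % 3) + (c / 3 ^ 3 % 3) * (c / 3 ^ 3 % 3) +
        (c / 3 ^ 4 % 3) * (c / 3 ^ 4 % 3) + (c / 3 ^ 5 % 3) * (c / 3 ^ 5 % 3)) % 3 = 1 := by
      have e0 := hdig 0; have e1 := hdig 1; have e2 := hdig 2
      have e3 := hdig 3; have e4 := hdig 4; have e5 := hdig 5
      simp only [show ((0 : Fin 6) : ℕ) = 0 from rfl, show ((1 : Fin 6) : ℕ) = 1 from rfl,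
        show ((2 : Fin 6) : ℕ) = 2 from rfl, show ((3 : Fin 6) : ℕ) = 3 from rfl,
        show ((4 : Fin 6) : ℕ) = 4 from rfl, show ((5 : Fin 6) : ℕ) = 5 from rfl] at e0 e1 e2 e3 e4 e5
      rw [e0, e1, e2, e3, e4, e5, ← ZMod.val_natCast]
      rw [Q6_apply, Fin.sum_univ_six] at hw
      simpa [ZMod.natCast_zmod_val, ZMod.val_one] using congrArg ZMod.val hw
    rw [hn] at h
    exact absurd h (by decide)
  · refine ⟨⟨idx.getD c 0, hk⟩, ?_⟩
    rcases h with h | h
    · exact Or.inl (hinj _ (by rw [codeV_vec]; exact h))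
    · exact Or.inr (hinj _ (by rw [codeV_neg]; exact h))

/-- The six indices. -/
def six (i : Fin 6) : Fin 126 := ⟨i.1, by omega⟩

theorem img_spec {g k : ℕ} (hg : g < 6) (hk : k < 126) : imgN g k < 126 ∧
    tab.walk (ptN k) (word (genRoots.getD g [])) = ptN (imgN g k) := by
  have h := List.all_eq_true.1 (List.all_eq_true.1 img_ok g (List.mem_range.2 hg)) k (List.mem_range.2 hk)
  simp only [Bool.and_eq_true, Nat.blt_eq, Nat.beq_eq] at h
  exact h.1

/-- The image of an index under one of the six. -/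
def img (g : Fin 6) (k : Fin 126) : Fin 126 := ⟨imgN g.1 k.1, (img_spec g.2 k.2).1⟩

/-- The reflection of one of the six. -/
noncomputable def rv (k : Fin 126) : Cfsg.isometryGroup (ZMod 3) ⇑Q6 :=
  reflect Q6 (vec k) (by rw [vec_norm]; exact one_ne_zero)

theorem img_vec (g : Fin 6) (k : Fin 126) :
    isoApply (rv (six g)) (vec k) = vec (img g k) ∨ isoApply (rv (six g)) (vec k) = -vec (img g k) := by
  have h := List.all_eq_true.1 (List.all_eq_true.1 img_ok g.1 (List.mem_range.2 g.2)) k.1 (List.mem_range.2 k.2)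
  simp only [Bool.and_eq_true, Bool.or_eq_true, List.all_eq_true, List.mem_range, Nat.beq_eq] at h
  have e : ∀ i : Fin 6, isoApply (rv (six g)) (vec k) i =
      ((dig k.1 i.1 + dotN k.1 g.1 * dig g.1 i.1 : ℕ) : ZMod 3) := by
    intro i
    rw [rv, reflect_apply, vec_norm, inv_one, one_mul, Pi.sub_apply, Pi.smul_apply, polar6, smul_eq_mul]
    simp only [vec, six, dotN, Fin.sum_univ_six, Nat.cast_add, Nat.cast_mul, ZMod.natCast_mod,
      show ((0 : Fin 6) : ℕ) = 0 from rfl, show ((1 : Fin 6) : ℕ) = 1 from rfl,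
      show ((2 : Fin 6) : ℕ) = 2 from rfl, show ((3 : Fin 6) : ℕ) = 3 from rfl,
      show ((4 : Fin 6) : ℕ) = 4 from rfl, show ((5 : Fin 6) : ℕ) = 5 from rfl]
    have h3 : (3 : ZMod 3) = 0 := by decide
    linear_combination -(((dig k.1 0 : ZMod 3) * dig g.1 0 + dig k.1 1 * dig g.1 1 + dig k.1 2 * dig g.1 2 +
      dig k.1 3 * dig g.1 3 + dig k.1 4 * dig g.1 4 + dig k.1 5 * dig g.1 5) * dig g.1 i.1) * h3
  rcases h.2 with hv | hv
  · left
    funext i
    rw [e i]
    exact (ZMod.natCast_eq_natCast_iff' _ _ _).2 (hv i.1 i.2)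
  · right
    funext i
    rw [e i, Pi.neg_apply, (ZMod.natCast_eq_natCast_iff' _ _ _).2 (hv i.1 i.2)]
    have h3 : (3 : ZMod 3) = 0 := by decide
    simp only [vec, img, Nat.cast_mul, Nat.cast_ofNat]
    linear_combination (dig (imgN g.1 k.1) i.1 : ZMod 3) * h3

/-- The indices are reached from the six. -/
theorem ind {P : Fin 126 → Prop} (h0 : ∀ g, P (six g)) (hs : ∀ g k, P k → P (img g k)) : ∀ k, P k := by
  suffices h : ∀ n (hn : n < 126), P ⟨n, hn⟩ from fun k => h k.1 k.2
  intro n
  induction n using Nat.strong_induction_on with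
  | _ n ih =>
    intro hn
    rcases Nat.lt_or_ge n 6 with h6 | h6
    · exact h0 ⟨n, h6⟩
    · have h := List.all_eq_true.1 par_ok (n - 6) (List.mem_range.2 (by omega))
      simp only [Bool.and_eq_true, Nat.blt_eq, Nat.beq_eq, Nat.sub_add_cancel h6] at h
      obtain ⟨⟨h1, h2⟩, h3⟩ := h
      have := hs ⟨_, h2⟩ _ (ih _ h1 (by omega))
      exact (Fin.ext h3 : img ⟨_, h2⟩ ⟨_, lt_trans h1 hn⟩ = ⟨n, hn⟩) ▸ this

variable {G : Type*} [Group G] (e : Cfsg.Spor.Fi22 ≃* G)

/-- The member of a root word. -/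
def mem' (r : List ℕ) : G := e (act fiGen (word r))

theorem word_lt {r : List ℕ} (hr : ∀ g ∈ r, g < 9) : ∀ g ∈ word r, g < 9 := by
  intro g hg
  simp only [word, List.mem_append, List.mem_reverse, List.mem_cons] at hg
  rcases hg with hg | rfl | hg
  exacts [hr g hg, by norm_num, hr g hg]

theorem mem'_isMem {r : List ℕ} (hr : ∀ g ∈ r, g < 9) : IsMem e (mem' e r) (tab.walk 0 r) := by
  refine ⟨act fiGen r, ?_, realised.act_apply hr _⟩
  rw [mem', word, act_append, act_cons, act_reverse fiGen_sq hr]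
  simp only [fA, act_cons, act_nil, one_mul]

theorem psi_mem' {r : List ℕ} (hr : ∀ g ∈ r, g < 9) (p : Fin tab.n) :
    (psi e (mem' e r) p).val = tab.walk p.val (word r) := by
  rw [mem', psi_act]
  exact realised.act_apply (word_lt hr) p

theorem root_lt : ∀ i, ∀ g ∈ genRoots.getD i [], g < 9 := by
  intro i g hg
  rcases lt_or_ge i genRoots.length with hi | hi
  · rw [List.getD_eq_getElem _ _ hi] at hg
    have h := List.all_eq_true.1 shape.2.2.2.1 _ (List.getElem_mem hi)
    exact Nat.blt_eq.mp (List.all_eq_true.1 h g hg)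
  · rw [List.getD_eq_default _ _ hi] at hg
    exact absurd hg List.not_mem_nil

theorem ptN_lt (k : ℕ) : ptN k < tab.n := by
  have h := shape.2.2.2.2.2.1
  simp only [List.all_eq_true, Nat.blt_eq] at h
  rw [tab_n, ptN]
  rcases lt_or_ge k pts.length with hk | hk
  · rw [List.getD_eq_getElem _ _ hk]
    exact h _ (List.getElem_mem hk)
  · rw [List.getD_eq_default _ _ hk]
    norm_num

/-- A point of the 126. -/
def pt (k : Fin 126) : Fin tab.n := ⟨ptN k.1, ptN_lt _⟩

theorem pt_injective : Function.Injective pt := by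
  intro i j h
  have h' : ptN i.1 = ptN j.1 := congrArg Fin.val h
  have hl : ∀ k : Fin 126, k.1 < pts.length := fun k => lt_of_lt_of_eq k.2 shape.2.1.symm
  rw [ptN, ptN, List.getD_eq_getElem _ _ (hl i), List.getD_eq_getElem _ _ (hl j)] at h'
  exact Fin.ext ((List.Nodup.getElem_inj_iff shape.2.2.1).1 h')

/-- One of the six members. -/
def gen (i : Fin 6) : G := mem' e (genRoots.getD i.1 [])

theorem gen_isMem (i : Fin 6) : IsMem e (gen e i) (pt (six i)).val := by
  have h := List.all_eq_true.1 shape.2.2.2.2.1 i.1 (List.mem_range.2 i.2)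
  show IsMem e _ (ptN i.1)
  rw [← Nat.eq_of_beq_eq_true h]
  exact mem'_isMem e (root_lt _)

theorem psi_gen (i : Fin 6) (k : Fin 126) : psi e (gen e i) (pt k) = pt (img i k) :=
  Fin.ext ((psi_mem' e (root_lt _) _).trans (img_spec i.2 k.2).2)

/-- The group of the six. -/
def grp : Subgroup G := Subgroup.closure (Set.range (gen e))

theorem gen_mem (i : Fin 6) : gen e i ∈ grp e := Subgroup.subset_closure ⟨i, rfl⟩

theorem exists_member : ∀ k, ∃ x, IsMem e x (pt k).val ∧ x ∈ grp e := by
  refine ind (fun g => ⟨_, gen_isMem e g, gen_mem e g⟩) fun g k ⟨x, hx, hxm⟩ => ?_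
  have h := IsMem.conj e (g := gen e g) hx
  rw [psi_gen] at h
  refine ⟨_, h, ?_⟩
  exact mul_mem (mul_mem (gen_mem e g) hxm) (inv_mem (gen_mem e g))

/-- The member at a point. -/
noncomputable def M (k : Fin 126) : G := (exists_member e k).choose

theorem M_isMem (k : Fin 126) : IsMem e (M e k) (pt k).val := (exists_member e k).choose_spec.1

theorem M_mem (k : Fin 126) : M e k ∈ grp e := (exists_member e k).choose_spec.2

theorem M_six (i : Fin 6) : M e (six i) = gen e i := IsMem.unique e (M_isMem e _) (gen_isMem e i)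

/-- An element commutes with a member exactly when it fixes its point. -/
theorem commute_iff_fix {g x : G} {p : Fin tab.n} (hx : IsMem e x p.val) : Commute g x ↔ psi e g p = p := by
  constructor
  · intro h
    have h1 := IsMem.conj e (g := g) hx
    rw [h.eq, mul_inv_cancel_right] at h1
    exact Fin.ext (IsMem.point e h1 hx)
  · intro h
    have h1 := IsMem.conj e (g := g) hx
    rw [h] at h1
    exact mul_inv_eq_iff_eq_mul.1 (IsMem.unique e h1 hx)

/-- The first of the two members. -/
def mA : G := mem' e []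

/-- The second of the two members. -/
def mB : G := mem' e [1, 0]

theorem lt_B : ∀ g ∈ ([1, 0] : List ℕ), g < 9 := by decide

theorem mA_isMem : IsMem e (mA e) (⟨0, zero_lt⟩ : Fin tab.n).val := by
  refine cast ?_ (mem'_isMem e (r := []) (fun g hg => absurd hg List.not_mem_nil))
  rfl

theorem walkB_lt : tab.walk 0 [1, 0] < tab.n := by
  obtain ⟨c, -, hc⟩ := mem'_isMem (MulEquiv.refl Cfsg.Spor.Fi22) lt_B
  rw [← hc]
  exact Fin.isLt _

theorem mB_isMem : IsMem e (mB e) (⟨tab.walk 0 [1, 0], walkB_lt⟩ : Fin tab.n).val := mem'_isMem e lt_B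

theorem not_commute_AB : ¬ Commute (mA e) (mB e) := by
  intro h
  have h1 := congrArg Fin.val ((commute_iff_fix e (mB_isMem e)).1 h)
  rw [mA, psi_mem' e (fun g hg => absurd hg List.not_mem_nil)] at h1
  have h2 := shape.2.2.2.2.2.2
  rw [show Nat.beq (tab.walk (tab.walk 0 [1, 0]) [0]) (tab.walk 0 [1, 0]) = true from Nat.beq_eq.mpr h1] at h2
  exact Bool.noConfusion h2

theorem mA_mem : mA e ∈ e '' transp := (mA_isMem e).mem

theorem mB_mem : mB e ∈ e '' transp := (mB_isMem e).mem

/-- The members commuting with both are the 126. -/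
theorem common_eq : link (e '' transp) (mA e) ∩ link (e '' transp) (mB e) = Set.range (M e) := by
  ext x
  constructor
  · rintro ⟨⟨⟨t, ht, rfl⟩, -, hA⟩, -, -, hB⟩
    obtain ⟨c, rfl⟩ := isConj_iff.1 ht
    set p := phi c ⟨0, zero_lt⟩ with hp
    have hx : IsMem e (e (c * fA * c⁻¹)) p.val := ⟨c, rfl, rfl⟩
    have e1 := congrArg Fin.val ((commute_iff_fix e hx).1 hA)
    have e2 := congrArg Fin.val ((commute_iff_fix e hx).1 hB)
    rw [mA, psi_mem' e (fun g hg => absurd hg List.not_mem_nil)] at e1
    rw [mB, psi_mem' e lt_B] at e2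
    have h := List.all_eq_true.1 complete_ok p.val (List.mem_range.2 (lt_of_lt_of_eq p.isLt tab_n))
    simp only [Bool.or_eq_true, Bool.not_eq_true', Bool.and_eq_false_iff, List.contains_iff_mem] at h
    rcases h with (h | h) | h
    · rw [show Nat.beq (tab.walk p.val [0]) p.val = true from Nat.beq_eq.mpr e1] at h
      exact absurd h (by decide)
    · rw [show Nat.beq (tab.walk p.val (word [1, 0])) p.val = true from Nat.beq_eq.mpr e2] at h
      exact absurd h (by decide)
    · obtain ⟨k, hk, hkp⟩ := List.getElem_of_mem h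
      refine ⟨⟨k, shape.2.1 ▸ hk⟩, IsMem.unique e (M_isMem e _) ?_⟩
      show IsMem e _ (ptN k)
      rw [ptN, List.getD_eq_getElem _ _ hk, hkp]
      exact hx
  · rintro ⟨k, rfl⟩
    have h := List.all_eq_true.1 fix_ok k.1 (List.mem_range.2 k.2)
    simp only [Bool.and_eq_true, Nat.beq_eq] at h
    have cA : Commute (mA e) (M e k) := (commute_iff_fix e (M_isMem e k)).2
      (Fin.ext ((psi_mem' e (fun g hg => absurd hg List.not_mem_nil) _).trans h.1))
    have cB : Commute (mB e) (M e k) := (commute_iff_fix e (M_isMem e k)).2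
      (Fin.ext ((psi_mem' e lt_B _).trans h.2))
    exact ⟨⟨(M_isMem e k).mem, fun hh => not_commute_AB e (hh ▸ cB).symm, cA⟩,
      (M_isMem e k).mem, fun hh => not_commute_AB e (hh ▸ cA), cB⟩

theorem closure_common :
    Subgroup.closure (link (e '' transp) (mA e) ∩ link (e '' transp) (mB e)) = grp e := by
  rw [common_eq]
  refine le_antisymm ((Subgroup.closure_le _).2 ?_) ((Subgroup.closure_le _).2 ?_)
  · rintro _ ⟨k, rfl⟩; exact M_mem e k
  · rintro _ ⟨i, rfl⟩; exact Subgroup.subset_closure ⟨six i, M_six e i⟩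

/-- The group generated by the reflections of norm one. -/
noncomputable abbrev W6 : Subgroup (Cfsg.isometryGroup (ZMod 3) ⇑Q6) := Cfsg.reflectionSubgroup (⇑Q6) 1

/-- The pairs of a member and its reflection. -/
noncomputable def pairs : Subgroup (G × Cfsg.isometryGroup (ZMod 3) ⇑Q6) :=
  Subgroup.closure (Set.range fun i => (gen e i, rv (six i)))

theorem iso_neg (g : Cfsg.isometryGroup (ZMod 3) ⇑Q6) (v : V) : isoApply g (-v) = -isoApply g v :=
  Matrix.mulVec_neg _ _

theorem pairs_step {p : G × Cfsg.isometryGroup (ZMod 3) ⇑Q6} (hp : p ∈ pairs e) (k : Fin 126) :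
    ∃ k', psi e p.1 (pt k) = pt k' ∧ (isoApply p.2 (vec k) = vec k' ∨ isoApply p.2 (vec k) = -vec k') := by
  induction hp using Subgroup.closure_induction generalizing k with
  | mem p hp =>
    obtain ⟨i, rfl⟩ := hp
    exact ⟨img i k, psi_gen e i k, img_vec i k⟩
  | one => exact ⟨k, by simp, Or.inl (isoApply_one _)⟩
  | mul p q _ _ ih1 ih2 =>
    obtain ⟨k1, e1, f1⟩ := ih2 k
    obtain ⟨k2, e2, f2⟩ := ih1 k1
    refine ⟨k2, by rw [Prod.fst_mul, map_mul, Equiv.Perm.mul_apply, e1, e2], ?_⟩
    rw [Prod.snd_mul, isoApply_mul]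
    rcases f1 with f1 | f1 <;> rcases f2 with f2 | f2 <;> simp only [f1, iso_neg, f2, neg_neg] <;> simp
  | inv p _ ih =>
    have hs : Function.Surjective fun k => (ih k).choose := Finite.surjective_of_injective fun a b h => by
      have ha := (ih a).choose_spec.1
      have hb := (ih b).choose_spec.1
      rw [show (ih a).choose = (ih b).choose from h] at ha
      exact pt_injective ((psi e p.1).injective (ha.trans hb.symm))
    obtain ⟨k', hk'⟩ := hs k
    obtain ⟨h, f⟩ := (ih k').choose_spec
    simp only at hk'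
    rw [hk'] at h f
    refine ⟨k', by rw [Prod.fst_inv, map_inv, Equiv.Perm.inv_def, Equiv.symm_apply_eq, h], ?_⟩
    rw [Prod.snd_inv]
    rcases f with f | f
    · exact Or.inl (by rw [← f, isoApply_inv_apply])
    · refine Or.inr ?_
      conv_lhs => rw [← neg_neg (vec k), ← f, iso_neg, isoApply_inv_apply]

/-- The reflection in a vector of norm one. -/
noncomputable abbrev rw6 (k : Fin 126) : ↥W6 := RefThree.rf Q6 one_ne_zero (vec_norm k)

theorem rv_sign {v : V} (hv : Q6 v ≠ 0) {k : Fin 126} (h : v = vec k ∨ v = -vec k) : reflect Q6 v hv = rv k := by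
  have hv1 : Q6 v = 1 := by
    rcases h with rfl | rfl
    · exact vec_norm k
    · rw [QuadraticMap.map_neg]; exact vec_norm k
  refine congrArg Subtype.val (?_ : RefThree.rf Q6 one_ne_zero hv1 = rw6 k)
  rcases h with rfl | rfl
  · rfl
  · exact RefThree.rf_congr Q6 one_ne_zero _ _ (a := -1) (by decide) (by rw [neg_smul, one_smul, neg_neg])

theorem W6_eq : W6 = Subgroup.closure (Set.range fun i => rv (six i)) := by
  refine le_antisymm ((Subgroup.closure_le _).2 ?_) ((Subgroup.closure_le _).2 ?_)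
  · rintro w ⟨v, hv, hw⟩
    have hv0 : Q6 v ≠ 0 := by rw [hv]; exact one_ne_zero
    obtain ⟨k, hk⟩ := vec_cover hv
    rw [show w = reflect Q6 v hv0 from Subtype.ext (Units.ext (hw.trans (reflect_coe Q6 v hv0).symm)),
      rv_sign hv0 hk]
    revert k
    refine fun k _ => ind (P := fun k => rv k ∈ Subgroup.closure (Set.range fun i => rv (six i)))
      (fun g => Subgroup.subset_closure ⟨g, rfl⟩) (fun g k hk => ?_) k
    have hg : rv (six g) ∈ Subgroup.closure (Set.range fun i => rv (six i)) := Subgroup.subset_closure ⟨g, rfl⟩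
    have h := mul_mem (mul_mem hg hk) (inv_mem hg)
    rwa [show rv k = reflect Q6 (vec k) _ from rfl, reflect_conj, rv_sign _ (img_vec g k)] at h
  · rintro _ ⟨i, rfl⟩
    exact (rw6 (six i)).2

theorem pairs_fst : (pairs e).map (MonoidHom.fst _ _) = grp e := by
  rw [pairs, MonoidHom.map_closure, grp, ← Set.range_comp]
  rfl

theorem pairs_snd : (pairs e).map (MonoidHom.snd _ _) = W6 := by
  rw [pairs, MonoidHom.map_closure, W6_eq, ← Set.range_comp]
  rfl

theorem proj : Cfsg.IsProjReflectionGroupModThree (↥(grp e) ⧸ Subgroup.center ↥(grp e)) 6 1 1 := by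
  refine ⟨Q6, nondeg, disc, ?_⟩
  let f₁ : ↥(pairs e) →* ↥(grp e) :=
    ((MonoidHom.fst _ _).comp (pairs e).subtype).codRestrict _ fun p => pairs_fst e ▸ ⟨_, p.2, rfl⟩
  let f₂ : ↥(pairs e) →* ↥W6 :=
    ((MonoidHom.snd _ _).comp (pairs e).subtype).codRestrict _ fun p => pairs_snd e ▸ ⟨_, p.2, rfl⟩
  have hf₁ : Function.Surjective f₁ := by
    rintro ⟨g, hg⟩
    rw [← pairs_fst] at hg
    obtain ⟨q, hq, rfl⟩ := hg
    exact ⟨⟨q, hq⟩, rfl⟩
  have hf₂ : Function.Surjective f₂ := by
    rintro ⟨g, hg⟩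
    rw [← pairs_snd e] at hg
    obtain ⟨q, hq, rfl⟩ := hg
    exact ⟨⟨q, hq⟩, rfl⟩
  let π₁ : ↥(pairs e) →* ↥(grp e) ⧸ Subgroup.center ↥(grp e) := (QuotientGroup.mk' _).comp f₁
  let π₂ : ↥(pairs e) →* ↥W6 ⧸ Subgroup.center ↥W6 := (QuotientGroup.mk' _).comp f₂
  have hker : π₁.ker = π₂.ker := by
    ext p
    show QuotientGroup.mk' _ (f₁ p) = 1 ↔ QuotientGroup.mk' _ (f₂ p) = 1
    rw [QuotientGroup.mk'_apply, QuotientGroup.eq_one_iff, QuotientGroup.mk'_apply, QuotientGroup.eq_one_iff,
      Subgroup.mem_center_iff, Subgroup.mem_center_iff]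
    have hfix : (∀ h : ↥(grp e), h * f₁ p = f₁ p * h) ↔ ∀ k, psi e (p : G × Cfsg.isometryGroup (ZMod 3) ⇑Q6).1 (pt k) = pt k := by
      constructor
      · intro h k
        exact (commute_iff_fix e (M_isMem e k)).1 (congrArg Subtype.val (h ⟨_, M_mem e k⟩)).symm
      · intro h x
        refine Subtype.ext ?_
        have : ∀ y ∈ grp e, Commute (p : G × Cfsg.isometryGroup (ZMod 3) ⇑Q6).1 y := by
          intro y hy
          rw [grp] at hy
          induction hy using Subgroup.closure_induction with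
          | mem y hy =>
            obtain ⟨i, rfl⟩ := hy
            exact (commute_iff_fix e (gen_isMem e i)).2 (h (six i))
          | one => exact Commute.one_right _
          | mul u v _ _ h1 h2 => exact h1.mul_right h2
          | inv u _ h1 => exact h1.inv_right
        exact (this _ x.2).eq.symm
    have hsgn : (∀ h : ↥W6, h * f₂ p = f₂ p * h) ↔
        ∀ k, isoApply (p : G × Cfsg.isometryGroup (ZMod 3) ⇑Q6).2 (vec k) = vec k ∨ isoApply (p : G × Cfsg.isometryGroup (ZMod 3) ⇑Q6).2 (vec k) = -vec k := by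
      constructor
      · intro h k
        have hn : Q6 (isoApply (p : G × Cfsg.isometryGroup (ZMod 3) ⇑Q6).2 (vec k)) = 1 := (isoApply_Q (Q := ⇑Q6) _ _).trans (vec_norm k)
        refine RefThree.rf_inj Q6 one_ne_zero (vec_norm k) hn (Subtype.ext ?_)
        show rv k = reflect Q6 (isoApply (p : G × Cfsg.isometryGroup (ZMod 3) ⇑Q6).2 (vec k))
          (by rw [hn]; exact one_ne_zero)
        rw [← reflect_conj Q6 (p : G × Cfsg.isometryGroup (ZMod 3) ⇑Q6).2 (vec k) (by rw [vec_norm]; exact one_ne_zero)]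
        show rv k = (p : G × Cfsg.isometryGroup (ZMod 3) ⇑Q6).2 * rv k * ((p : G × Cfsg.isometryGroup (ZMod 3) ⇑Q6).2)⁻¹
        rw [eq_mul_inv_iff_mul_eq]
        exact congrArg Subtype.val (h (rw6 k))
      · intro h x
        refine Subtype.ext ?_
        have : ∀ y ∈ W6, Commute (p : G × Cfsg.isometryGroup (ZMod 3) ⇑Q6).2 y := by
          intro y hy
          rw [W6_eq] at hy
          induction hy using Subgroup.closure_induction with
          | mem y hy =>
            obtain ⟨i, rfl⟩ := hy
            refine mul_inv_eq_iff_eq_mul.1 ?_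
            show _ * reflect Q6 _ _ * _ = _
            rw [reflect_conj]
            exact rv_sign _ (h (six i))
          | one => exact Commute.one_right _
          | mul u v _ _ h1 h2 => exact h1.mul_right h2
          | inv u _ h1 => exact h1.inv_right
        exact (this _ x.2).eq.symm
    rw [hfix, hsgn]
    constructor
    · intro h k
      obtain ⟨k', h1, h2⟩ := pairs_step e p.2 k
      obtain rfl := pt_injective (h1.symm.trans (h k))
      exact h2
    · intro h k
      obtain ⟨k', h1, h2⟩ := pairs_step e p.2 k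
      obtain rfl : k' = k := by
        refine vec_inj ?_
        rcases h k with h3 | h3 <;> rcases h2 with h2 | h2 <;> rw [h3] at h2
        · exact Or.inl h2.symm
        · exact Or.inr (by rw [h2, neg_neg])
        · exact Or.inr h2.symm
        · exact Or.inl (neg_injective h2).symm
      exact h1
  exact ⟨(QuotientGroup.quotientKerEquivOfSurjective π₁ ((QuotientGroup.mk'_surjective _).comp hf₁)).symm.trans
    ((QuotientGroup.quotientMulEquivOfEq hker).trans
      (QuotientGroup.quotientKerEquivOfSurjective π₂ ((QuotientGroup.mk'_surjective _).comp hf₂)))⟩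

/-- The members commuting with two non-commuting members, modulo the centre. -/
theorem exists_pair : ∃ d ∈ e '' transp, ∃ c ∈ e '' transp, ¬ Commute d c ∧
    Cfsg.IsProjReflectionGroupModThree
      (↥(Subgroup.closure (link (e '' transp) d ∩ link (e '' transp) c)) ⧸
        Subgroup.center ↥(Subgroup.closure (link (e '' transp) d ∩ link (e '' transp) c))) 6 1 1 := by
  refine ⟨mA e, mA_mem e, mB e, mB_mem e, not_commute_AB e, ?_⟩
  rw [closure_common]
  exact proj e

end CfsgLib.Fi22P.Minus6
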