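import Cfsg.Agent.Lib.ThreeTransp.U6Recog.Minus6Data
import Cfsg.Agent.Lib.Fi22P.PermData

/-!
Kernel checks of the 126 members commuting with two non-commuting members, with their vectors.
-/

set_option autoImplicit false
set_option maxRecDepth 100000

namespace CfsgLib.Fi22P.Minus6

/-- The word of the member with a given root word. -/
def word (r : List ℕ) : List ℕ := r.reverse ++ 0 :: r

/-- A point. -/
def ptN (k : ℕ) : ℕ := pts.getD k 0

/-- A digit of the code of a point. -/
def dig (k i : ℕ) : ℕ := codes.getD k 0 / 3 ^ i % 3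

/-- The image of a point under a member. -/
def imgN (g k : ℕ) : ℕ := (imgs.getD g []).getD k 0

/-- The inner product of two coded vectors. -/
def dotN (k l : ℕ) : ℕ :=
  (dig k 0 * dig l 0 + dig k 1 * dig l 1 + dig k 2 * dig l 2 + dig k 3 * dig l 3 + dig k 4 * dig l 4 +
    dig k 5 * dig l 5) % 3

/-- The code of six digits. -/
def code (f : ℕ → ℕ) : ℕ :=
  f 0 % 3 + 3 * (f 1 % 3) + 9 * (f 2 % 3) + 27 * (f 3 % 3) + 81 * (f 4 % 3) + 243 * (f 5 % 3)

theorem shape : genRoots.length = 6 ∧ pts.length = 126 ∧ pts.Nodup ∧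
    genRoots.all (fun r => r.all fun g => Nat.blt g 9) = true ∧
    (List.range 6).all (fun i => Nat.beq (tab.walk 0 (genRoots.getD i [])) (ptN i)) = true ∧
    pts.all (fun p => Nat.blt p 3510) = true ∧
    (Nat.beq (tab.walk (tab.walk 0 [1, 0]) [0]) (tab.walk 0 [1, 0])) = false := by
  decide +kernel

theorem fix_ok : (List.range 126).all (fun k => Nat.beq (tab.walk (ptN k) [0]) (ptN k) &&
    Nat.beq (tab.walk (ptN k) (word [1, 0])) (ptN k)) = true := by
  decide +kernel

theorem complete_ok : (List.range 3510).all (fun p =>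
    !(Nat.beq (tab.walk p [0]) p && Nat.beq (tab.walk p (word [1, 0])) p) || pts.contains p) = true := by
  decide +kernel

theorem img_ok : (List.range 6).all (fun g => (List.range 126).all fun k =>
    Nat.blt (imgN g k) 126 && Nat.beq (tab.walk (ptN k) (word (genRoots.getD g []))) (ptN (imgN g k)) &&
      ((List.range 6).all (fun i => Nat.beq ((dig k i + dotN k g * dig g i) % 3) (dig (imgN g k) i % 3)) ||
        (List.range 6).all (fun i => Nat.beq ((dig k i + dotN k g * dig g i) % 3) (2 * dig (imgN g k) i % 3)))) =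
      true := by
  decide +kernel

theorem vec_ok : (List.range 126).all (fun k => Nat.beq (dotN k k) 1 && Nat.beq (idx.getD (code (dig k)) 0) k &&
    Nat.beq (idx.getD (code fun i => 2 * dig k i) 0) k) = true := by
  decide +kernel

theorem cover_ok : (List.range 729).all (fun c =>
    let f : ℕ → ℕ := fun i => c / 3 ^ i % 3
    let k := idx.getD c 0
    !(Nat.beq ((f 0 * f 0 + f 1 * f 1 + f 2 * f 2 + f 3 * f 3 + f 4 * f 4 + f 5 * f 5) % 3) 1) ||
      (Nat.blt k 126 && (Nat.beq (code (dig k)) c || Nat.beq (code fun i => 2 * dig k i) c))) = true := by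
  decide +kernel

theorem par_ok : (List.range 120).all (fun k =>
    let p := pars.getD k (0, 0)
    Nat.blt p.1 (k + 6) && Nat.blt p.2 6 && Nat.beq (imgN p.2 p.1) (k + 6)) = true := by
  decide +kernel

end CfsgLib.Fi22P.Minus6
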