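import Cfsg.Agent.Lib.ThreeTransp.U6Recog.Component
import Cfsg.Agent.Lib.ThreeTransp.M22PairHom
import Cfsg.Agent.Lib.Invol.ZStarFinal
import Cfsg.Agent.Lib.Cores.Basic

/-!
# The centraliser of the product of two commuting conjugates lies in the group of their component

The only conjugates in the centraliser of `j = d e` that commute with `d` are `d` and `e`, so the image of `d`
modulo `⟨j⟩` is isolated; every common neighbour inverts the odd core, which is therefore inverted by the whole
link and so trivial.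
-/

set_option autoImplicit false

namespace CfsgLib.U6Recog

open Cfsg CfsgLib.U6
open CfsgLib.ThreeTransp (link)
open CfsgLib.PSUAut (Isot act)

variable {G : Type*} [Group G]
variable {F : Type} [Field F] [Fintype F]

/-- An element of odd order is a power of its square. -/
theorem mem_of_sq_mem {H : Subgroup G} {k : G} {m : ℕ} (hm : Odd m) (hk : k ^ m = 1) (h : k * k ∈ H) : k ∈ H := by
  obtain ⟨t, rfl⟩ := hm
  have : (k * k) ^ (t + 1) = k := by
    rw [← pow_two, ← pow_mul, show 2 * (t + 1) = (2 * t + 1) + 1 by ring, pow_add, hk, one_mul, pow_one]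
  exact this ▸ pow_mem h _

/-- An element of odd order inverted by an involution up to a commuting involution is inverted by it. -/
theorem eq_of_odd {a b z : G} {m : ℕ} (hm : Odd m) (ha : a ^ m = 1) (hb : b ^ m = 1) (hz : z * z = 1)
    (hbz : Commute b z) (h : a = b * z) : a = b := by
  rw [h, hbz.mul_pow, hb, one_mul] at ha
  obtain ⟨t, rfl⟩ := hm
  rw [pow_succ, pow_mul, pow_two, hz, one_pow, one_mul] at ha
  rw [h, ha, mul_one]

/-- The centraliser of a product. -/
abbrev jCent (d e : G) : Subgroup G := Subgroup.centralizer ({d * e} : Set G)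

/-- The product, central in it. -/
abbrev jEl (d e : G) : Subgroup ↥(jCent d e) :=
  Subgroup.zpowers ⟨d * e, Subgroup.mem_centralizer_singleton_iff.2 rfl⟩

instance jEl_normal (d e : G) : (jEl d e).Normal := by
  refine ⟨fun n hn g => ?_⟩
  obtain ⟨i, rfl⟩ := Subgroup.mem_zpowers_iff.1 hn
  have hc : Commute g ⟨d * e, Subgroup.mem_centralizer_singleton_iff.2 rfl⟩ :=
    Subtype.ext (Subgroup.mem_centralizer_singleton_iff.1 g.2)
  rw [(hc.zpow_right i).eq, mul_inv_cancel_right]
  exact Subgroup.mem_zpowers_iff.2 ⟨i, rfl⟩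

/-- The preimage of the odd core. -/
def kSub (d e : G) : Subgroup G :=
  ((oddCore (↥(jCent d e) ⧸ jEl d e)).comap (QuotientGroup.mk' (jEl d e))).map (jCent d e).subtype

theorem mem_kSub {d e x : G} (hx : x ∈ jCent d e) : x ∈ kSub d e ↔
    QuotientGroup.mk' (jEl d e) ⟨x, hx⟩ ∈ oddCore (↥(jCent d e) ⧸ jEl d e) := by
  constructor
  · rintro ⟨y, hy, rfl⟩; exact hy
  · intro h; exact ⟨_, h, rfl⟩

theorem kSub_le (d e : G) : kSub d e ≤ jCent d e := by
  rintro _ ⟨y, -, rfl⟩; exact y.2

theorem kSub_conj {d e x g : G} (hx : x ∈ kSub d e) (hg : g ∈ jCent d e) : g * x * g⁻¹ ∈ kSub d e := by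
  obtain ⟨y, hy, rfl⟩ := hx
  refine ⟨⟨g, hg⟩ * y * ⟨g, hg⟩⁻¹, ?_, rfl⟩
  exact Subgroup.Normal.conj_mem ((pPrimeCore_normal 2 _).comap _) y hy _

theorem mul_self_zpowers {H : Type*} [Group H] {z : H} (hz : z * z = 1) {w : H} (hw : w ∈ Subgroup.zpowers z) :
    w = 1 ∨ w = z := by
  obtain ⟨i, rfl⟩ := Subgroup.mem_zpowers_iff.1 hw
  have h2 : z ^ (2 : ℤ) = 1 := by rw [zpow_two]; exact hz
  rcases Int.emod_two_eq_zero_or_one i with h | h <;>
    rw [← Int.emod_add_mul_ediv i 2, zpow_add, zpow_mul, h2, one_zpow, mul_one, h]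
  · exact Or.inl (zpow_zero z)
  · exact Or.inr (zpow_one z)

namespace Rec

variable {d : G} [Finite G] (R : Rec d F)
include R

/-- The conjugates in the group of the component are the component. -/
theorem mem_comp_of_mem {x : G} (hx : x ∈ conjugatesOf d) (hm : x ∈ compGroup d) : x ∈ Comp d := by
  have S := R.compSetup
  obtain ⟨F', _, _, hF', hM⟩ := S.exists_models
  have h2 : orderOf (⟨x, hm⟩ : ↥(compGroup d)) = 2 :=
    orderOf_eq_prime (Subtype.ext (by simpa [pow_two] using R.sq_of_mem hx))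
      fun h => R.ne_one_of_mem hx (congrArg Subtype.val h)
  obtain ⟨a, ha, hc⟩ := M22.exists_fixed S hF' hM h2
  exact R.comp_mem_of_commute ha hx (congrArg Subtype.val hc.eq).symm

/-- The centraliser of a member of the component is in its group. -/
theorem centralizer_comp_le {x : G} (hx : x ∈ Comp d) : Subgroup.centralizer ({x} : Set G) ≤ compGroup d := by
  obtain ⟨m, hm, rfl⟩ := R.comp_cls hx
  intro g hg
  have := R.centralizer_le (cent_conj.1 hg)
  simpa [mul_assoc] using mul_mem (mul_mem hm this) (inv_mem hm)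

theorem link_comp {e : G} (he : e ∈ link (conjugatesOf d) d) : e ∈ Comp d := link_subset_comp he

/-- A member of the component commuting with the product of a commuting pair commutes with both. -/
theorem pair_fix {a b f : G} (ha : a ∈ Comp d) (hb : b ∈ Comp d) (hf : f ∈ Comp d) (hab : Commute a b)
    (hne : a ≠ b) (h : Commute f (a * b)) : Commute f a ∧ Commute f b := by
  have hfa : Commute f a := by
    by_contra hfa
    have br := (conj_braid (R.sq_of_mem hf.1) (R.sq_of_mem ha.1)
      (R.near_braid hf.1 ha.1 (R.comp_near hf ha) hfa)).1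
    have hfi : f * f = 1 := R.sq_of_mem hf.1
    have hai : a * a = 1 := R.sq_of_mem ha.1
    by_cases hfb : Commute f b
    · refine hfa ?_
      have : Commute f (a * b * b) := h.mul_right hfb
      rwa [mul_assoc, R.sq_of_mem hb.1, mul_one] at this
    · have br' := (conj_braid (R.sq_of_mem hf.1) (R.sq_of_mem hb.1)
        (R.near_braid hf.1 hb.1 (R.comp_near hf hb) hfb)).1
      have h1 : f * b * f = a * f * a * (a * b) := by
        calc f * b * f = f * a * (a * b) * f := by rw [← mul_assoc (f * a) a b, mul_assoc f a a, hai, mul_one]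
          _ = f * a * f * (a * b) := by rw [mul_assoc (f * a) (a * b) f, ← h.eq, ← mul_assoc]
          _ = a * f * a * (a * b) := by rw [br]
      have h2 : b * f * b = a * f * b := by
        rw [← br', h1, show a * f * a * (a * b) = a * f * (a * a) * b by group, hai, mul_one]
      exact hne (mul_right_cancel (mul_right_cancel h2)).symm
  refine ⟨hfa, ?_⟩
  have : Commute f (a * (a * b)) := hfa.mul_right h
  rwa [← mul_assoc, R.sq_of_mem ha.1, one_mul] at this

variable {e : G} (he : e ∈ link (conjugatesOf d) d)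
include he

theorem j_sq : d * e * (d * e) = 1 := by
  rw [(show Commute e d from he.2.2.symm).mul_mul_mul_comm, R.sq, R.sq_of_mem he.1, mul_one]

theorem j_ne : d * e ≠ 1 := fun h => he.2.1 (mul_left_cancel (h.trans R.sq.symm))

omit R [Finite G] in
theorem d_mem : d ∈ jCent d e :=
  Subgroup.mem_centralizer_singleton_iff.2 ((Commute.refl d).mul_right he.2.2).eq

omit R [Finite G] in
theorem e_mem : e ∈ jCent d e :=
  Subgroup.mem_centralizer_singleton_iff.2 (he.2.2.symm.mul_right (Commute.refl e)).eq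

omit R [Finite G] in
theorem common_mem {f : G} (hf : f ∈ link (conjugatesOf d) d) (hfe : Commute f e) : f ∈ jCent d e :=
  Subgroup.mem_centralizer_singleton_iff.2 (hf.2.2.symm.mul_right hfe).eq

/-- The conjugates of `d` under the centraliser of `d e` commuting with `d`. -/
theorem class_cases {g : G} (hg : g ∈ jCent d e) (hc : Commute d (g * d * g⁻¹)) :
    g * d * g⁻¹ = d ∨ g * d * g⁻¹ = e := by
  set f := g * d * g⁻¹ with hf
  have hfD : f ∈ conjugatesOf d := isConj_iff.2 ⟨g, rfl⟩
  by_contra hcon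
  push Not at hcon
  have hfj : Commute f (d * e) := by
    show f * (d * e) = d * e * f
    have h1 := Subgroup.mem_centralizer_singleton_iff.1 hg
    have h2 : Commute g (d * e) := h1
    exact ((h2.mul_left (Commute.refl d |>.mul_right he.2.2)).mul_left h2.inv_left).eq
  have hfe : Commute f e := by
    have : Commute f (d * (d * e)) := hc.symm.mul_right hfj
    rwa [← mul_assoc, R.sq, one_mul] at this
  have h3 : f * d * e ∈ conjugatesOf d := by
    have : g * e * g⁻¹ = f * d * e := by
      calc g * e * g⁻¹ = g * (d * (d * e)) * g⁻¹ := by rw [← mul_assoc d d e, R.sq, one_mul]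
        _ = f * (g * (d * e) * g⁻¹) := by rw [hf]; group
        _ = f * (d * e) := by rw [Subgroup.mem_centralizer_singleton_iff.1 hg, mul_inv_cancel_right]
        _ = f * d * e := (mul_assoc _ _ _).symm
    exact this ▸ he.1.trans (isConj_iff.2 ⟨g, rfl⟩)
  exact R.three_notMem hfD (IsConj.refl d) he.1 hc.symm hfe he.2.2 hcon.1 hcon.2 he.2.1.symm h3

/-- The image of `d` is isolated, so `d` times a conjugate is in the preimage of the odd core. -/
theorem mul_conj_mem {g : G} (hg : g ∈ jCent d e) : d * (g * d * g⁻¹) ∈ kSub d e := by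
  set π := QuotientGroup.mk' (jEl d e) with hπ
  set jj : ↥(jCent d e) := ⟨d * e, Subgroup.mem_centralizer_singleton_iff.2 rfl⟩ with hjj
  set dd : ↥(jCent d e) := ⟨d, d_mem he⟩ with hdd
  have hjsq : jj * jj = 1 := Subtype.ext (R.j_sq he)
  have hz : IsIsolatedInvolution (π dd) := by
    refine ⟨orderOf_eq_prime ?_ ?_, fun q hq => ?_⟩
    · rw [← map_pow, show dd ^ 2 = 1 from Subtype.ext (by simpa [pow_two] using R.sq), map_one]
    · intro h
      rcases mul_self_zpowers hjsq ((QuotientGroup.eq_one_iff _).1 h) with h | h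
      · exact R.ne_one (congrArg Subtype.val h)
      · exact R.ne_one_of_mem he.1 (mul_left_cancel (a := d) (by rw [mul_one]; exact (congrArg Subtype.val h).symm))
    · obtain ⟨x, rfl⟩ := QuotientGroup.mk'_surjective (jEl d e) q
      rw [← map_inv, ← map_mul, ← map_mul] at hq ⊢
      have hc' : Commute d ((x : G) * d * (x : G)⁻¹) := by
        set f := (x : G) * d * (x : G)⁻¹ with hf
        have h1 : (dd * (x * dd * x⁻¹))⁻¹ * (x * dd * x⁻¹ * dd) ∈ Subgroup.zpowers jj := by
          refine QuotientGroup.eq.1 ?_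
          show π (dd * (x * dd * x⁻¹)) = π (x * dd * x⁻¹ * dd)
          rw [map_mul, map_mul π (x * dd * x⁻¹) dd]
          exact hq.eq
        rcases mul_self_zpowers hjsq h1 with h | h
        · exact congrArg Subtype.val (inv_mul_eq_one.1 h)
        · exfalso
          have h' : f * d = d * f * (d * e) :=
            (inv_mul_eq_iff_eq_mul.1 (congrArg Subtype.val h : (d * f)⁻¹ * (f * d) = d * e))
          have hfD : f ∈ conjugatesOf d := isConj_iff.2 ⟨x, rfl⟩
          have hfj : Commute f (d * e) := by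
            have h2 : Commute (x : G) (d * e) := Subgroup.mem_centralizer_singleton_iff.1 x.2
            exact (h2.mul_left ((Commute.refl d).mul_right he.2.2)).mul_left h2.inv_left
          have hff : f * f = 1 := R.sq_of_mem hfD
          have hfde : f * d * f⁻¹ = e := by
            rw [inv_eq_of_mul_eq_one_right hff]
            calc f * d * f = d * f * (d * e) * f := by rw [h']
              _ = d * f * (f * (d * e)) := by rw [mul_assoc, hfj.eq]
              _ = e := by rw [← mul_assoc (d * f) f, mul_assoc d f f, hff, mul_one, ← mul_assoc, R.sq, one_mul]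
          have hfM : f ∈ Comp d := R.mem_comp_of_mem hfD (R.mem_compGroup (hfde ▸ R.link_comp he))
          have hcf := (R.pair_fix (self_mem_comp d) (R.link_comp he) hfM he.2.2 he.2.1.symm hfj).1
          rw [hcf.eq, mul_inv_cancel_right] at hfde
          exact he.2.1 hfde.symm
      rcases R.class_cases he x.2 hc' with h | h
      · exact congrArg π (Subtype.ext h)
      · refine QuotientGroup.eq.2 ?_
        have : (x * dd * x⁻¹)⁻¹ * dd = jj := Subtype.ext (by
          show ((x : G) * d * (x : G)⁻¹)⁻¹ * d = d * e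
          rw [h, inv_eq_of_mul_eq_one_right (R.sq_of_mem he.1)]
          exact he.2.2.symm.eq)
        rw [this]; exact Subgroup.mem_zpowers _
  have h := Invol.zstar hz (π ⟨g, hg⟩)
  rw [← map_inv, ← map_inv, ← map_mul, ← map_mul, ← map_mul, ← mem_kSub] at h
  have hd : d⁻¹ = d := inv_eq_of_mul_eq_one_right R.sq
  have e1 : d * g * d⁻¹ * g⁻¹ = d * (g * d * g⁻¹) := by rw [hd]; group
  exact e1 ▸ h

omit he in
theorem odd_power {e : G} (hsq : d * e * (d * e) = 1) {x : G} (hx : x ∈ kSub d e) : ∃ (m : ℕ), Odd m ∧ (x ^ m = 1 ∨ x ^ m = d * e) ∧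
    Nat.card (kSub d e) = Nat.card (jEl d e) * m := by
  set O := oddCore (↥(jCent d e) ⧸ jEl d e) with hO
  refine ⟨Nat.card O, Cores.odd_card_oddCore, ?_, ?_⟩
  · obtain ⟨y, hy, rfl⟩ := hx
    have h1 : QuotientGroup.mk' (jEl d e) (y ^ Nat.card O) = 1 := by
      rw [map_pow]
      exact congrArg Subtype.val (pow_card_eq_one' (x := (⟨_, hy⟩ : O)))
    obtain ⟨i, hi⟩ := Subgroup.mem_zpowers_iff.1 ((QuotientGroup.eq_one_iff _).1 h1)
    exact mul_self_zpowers hsq (Subgroup.mem_zpowers_iff.2 ⟨i, congrArg Subtype.val hi⟩)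
  · rw [kSub, Subgroup.card_map_of_injective (jCent d e).subtype_injective, ← hO]
    have h1 := Subgroup.card_mul_index (O.comap (QuotientGroup.mk' (jEl d e)))
    rw [Subgroup.index_comap_of_surjective _ (QuotientGroup.mk'_surjective _), Subgroup.card_eq_card_quotient_mul_card_subgroup (jEl d e),
      ← Subgroup.card_mul_index O] at h1
    refine Nat.eq_of_mul_eq_mul_right (Nat.pos_of_ne_zero Subgroup.index_ne_zero_of_finite) (h1.trans ?_)
    ring

/-- An element of odd order of the preimage that commutes with a common neighbour, or with `d`, is trivial. -/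
theorem eq_one_of_commute {f k : G} (hf : f ∈ Comp d) (hk : k ∈ kSub d e) {m : ℕ} (hm : Odd m)
    (hkm : k ^ m = 1) (hkf : Commute k f) : k = 1 := by
  have hkM : k ∈ compGroup d := R.centralizer_comp_le hf (Subgroup.mem_centralizer_singleton_iff.2 hkf)
  have hkj := Subgroup.mem_centralizer_singleton_iff.1 (kSub_le d e hk)
  -- it fixes the pair
  have hsq : Commute (k * k) d := by
    have key : ∀ {g : G}, g ∈ compGroup d → g ∈ jCent d e → g * d * g⁻¹ = d ∨ g * d * g⁻¹ = e := by
      intro g hgM hgj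
      have hfC : g * d * g⁻¹ ∈ Comp d := R.group_conj hgM (self_mem_comp d)
      have h2 : Commute g (d * e) := Subgroup.mem_centralizer_singleton_iff.1 hgj
      have hfj : Commute (g * d * g⁻¹) (d * e) :=
        (h2.mul_left ((Commute.refl d).mul_right he.2.2)).mul_left h2.inv_left
      exact R.class_cases he hgj (R.pair_fix (self_mem_comp d) (R.link_comp he) hfC he.2.2 he.2.1.symm hfj).1.symm
    rcases key hkM (kSub_le d e hk) with h | h
    · have : Commute k d := mul_inv_eq_iff_eq_mul.1 h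
      exact this.mul_left this
    · refine mul_inv_eq_iff_eq_mul.1 (?_ : k * k * d * (k * k)⁻¹ = d)
      calc k * k * d * (k * k)⁻¹ = k * e * k⁻¹ := by rw [← h]; group
        _ = k * (d * (d * e)) * k⁻¹ := by rw [← mul_assoc d d e, R.sq, one_mul]
        _ = e * (k * (d * e) * k⁻¹) := by rw [← h]; group
        _ = d := by
          rw [hkj, mul_inv_cancel_right, he.2.2.eq, ← mul_assoc, R.sq_of_mem he.1, one_mul]
  have hkd : Commute k d := Subgroup.mem_centralizer_singleton_iff.1
    (mem_of_sq_mem hm hkm (Subgroup.mem_centralizer_singleton_iff.2 hsq))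
  have hke : Commute k e := by
    have : Commute k (d * (d * e)) := hkd.mul_right hkj
    rwa [← mul_assoc, R.sq, one_mul] at this
  -- in the joint centraliser inside the group of the component
  have S := R.compSetup
  obtain ⟨F', _, _, hF', hM⟩ := S.exists_models
  set a : ↥(compGroup d) := ⟨d, comp_le (self_mem_comp d)⟩ with hadef
  set b : ↥(compGroup d) := ⟨e, comp_le (R.link_comp he)⟩ with hbdef
  have ha : a ∈ compSet d := self_mem_comp d
  have hb : b ∈ link (compSet d) a :=
    ⟨R.link_comp he, fun h => he.2.1 (congrArg Subtype.val h), Subtype.ext he.2.2.eq⟩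
  obtain ⟨A⟩ := hM a ha
  obtain ⟨u, hu⟩ := A.exists_pt_of_link S hF' ha hb
  obtain ⟨P⟩ := exists_frame hF' hu.1
  obtain ⟨ρ, hρ, -⟩ := M22.exists_pair_rho S hF' hM ha hb A hu P
  set N := ((kSub d e).comap (compGroup d).subtype).subgroupOf (M22.pairCent a b) with hN
  haveI hNn : N.Normal := ⟨fun n hn g => by
    obtain ⟨h1, h2⟩ := M22.mem_pairCent.1 g.2
    refine kSub_conj hn (Subgroup.mem_centralizer_singleton_iff.2 ?_)
    exact ((show Commute ((g : ↥(compGroup d)) : G) d from congrArg Subtype.val h1.eq).mul_right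
      (congrArg Subtype.val h2.eq)).eq⟩
  set kk : ↥(M22.pairCent a b) :=
    ⟨⟨k, hkM⟩, M22.mem_pairCent.2 ⟨Subtype.ext hkd.eq, Subtype.ext hke.eq⟩⟩ with hkk
  have hker : kk ∈ ρ.ker := by
    haveI : IsSimpleGroup (Cfsg.PSU 4 F' 2) :=
      CfsgLib.Classical.Unitary.isSimpleGroup_PSU hF' (by norm_num) (by norm_num)
    have hc : Subgroup.center (Cfsg.SU 4 F' 2) = ⊥ := Subgroup.card_eq_one.1
      ((CfsgLib.Classical.card_center_su (n := 4) hF' (by norm_num)).trans (by decide))
    set π := QuotientGroup.mk' (Subgroup.center (Cfsg.SU 4 F' 2))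
    haveI hn : ((N.map ρ).map π).Normal := (hNn.map ρ hρ).map π (QuotientGroup.mk'_surjective _)
    rcases hn.eq_bot_or_eq_top with h | h
    · have : π (ρ kk) ∈ (N.map ρ).map π := Subgroup.mem_map_of_mem π (Subgroup.mem_map_of_mem ρ hk)
      rw [h, Subgroup.mem_bot] at this
      have := (QuotientGroup.eq_one_iff _).1 this
      rwa [hc, Subgroup.mem_bot, ← MonoidHom.mem_ker] at this
    · exfalso
      have htop : N.map ρ = ⊤ := by
        refine eq_top_iff.2 fun w _ => ?_
        obtain ⟨v, hv, hvw⟩ : π w ∈ (N.map ρ).map π := h ▸ Subgroup.mem_top _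
        have hm' : v⁻¹ * w ∈ Subgroup.center (Cfsg.SU 4 F' 2) := QuotientGroup.eq.1 hvw
        rw [hc, Subgroup.mem_bot, inv_mul_eq_one] at hm'
        exact hm' ▸ hv
      have h1 : 25920 ∣ Nat.card ↥(kSub d e) := by
        have e1 : Nat.card ↥(N.map ρ) = 25920 := by rw [htop, Subgroup.card_top, M22.card_su_four hF']
        refine e1 ▸ (Subgroup.card_map_dvd N ρ).trans ?_
        refine (Subgroup.card_dvd_of_injective
          ({ toFun := fun x => ⟨((x : ↥(M22.pairCent a b)) : ↥(compGroup d)), x.2⟩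
             map_one' := rfl
             map_mul' := fun _ _ => rfl } : ↥N →* ↥(kSub d e)) fun x y hxy => ?_)
        exact Subtype.ext (Subtype.ext (Subtype.ext (congrArg (fun z : ↥(kSub d e) => (z : G)) hxy)))
      obtain ⟨m', hm', -, hcard⟩ := R.odd_power (R.j_sq he) hk
      have hj : Nat.card ↥(jEl d e) = 2 := by
        rw [Nat.card_zpowers]
        exact orderOf_eq_prime (Subtype.ext (by simpa [pow_two] using R.j_sq he))
          fun h => R.j_ne he (congrArg Subtype.val h)
      rw [hcard, hj] at h1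
      obtain ⟨t, rfl⟩ := hm'
      omega
  have hcard := M22.card_ker_rho S hF' hM ha hb A hu ρ hρ
  have hk2 : orderOf (⟨kk, hker⟩ : ρ.ker) ∣ 1024 := hcard ▸ orderOf_dvd_natCard _
  have hk3 : orderOf (⟨kk, hker⟩ : ρ.ker) ∣ m :=
    orderOf_dvd_of_pow_eq_one (Subtype.ext (Subtype.ext (Subtype.ext hkm)))
  have hcop : Nat.Coprime 1024 m := by
    rw [show (1024 : ℕ) = 2 ^ 10 by norm_num]
    exact Nat.Coprime.pow_left 10 (Nat.coprime_two_left.2 hm)
  have h1 := orderOf_eq_one_iff.1 (Nat.eq_one_of_dvd_coprimes hcop hk2 hk3)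
  exact congrArg (fun z : ρ.ker => (((z : ↥(M22.pairCent a b)) : ↥(compGroup d)) : G)) h1

/-- An element of odd order inverted by `d` and `e` is inverted by their common neighbours. -/
theorem inverted_common {o f : G} {m : ℕ} (hm : Odd m) (hom : o ^ m = 1) (hd : d * o * d⁻¹ = o⁻¹)
    (hee : e * o * e⁻¹ = o⁻¹) (hf : f ∈ link (conjugatesOf d) d) (hfe : Commute f e) : f * o * f⁻¹ = o⁻¹ := by
  have hoj : o ∈ jCent d e := by
    refine Subgroup.mem_centralizer_singleton_iff.2 ?_
    have : d * e * o * (d * e)⁻¹ = o := by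
      calc d * e * o * (d * e)⁻¹ = d * (e * o * e⁻¹) * d⁻¹ := by group
        _ = (d * o * d⁻¹)⁻¹ := by rw [hee]; group
        _ = o := by rw [hd, inv_inv]
    exact (mul_inv_eq_iff_eq_mul.1 this).symm
  have hoK : o ∈ kSub d e := by
    have h1 := R.mul_conj_mem he hoj
    have hd' : d⁻¹ = d := inv_eq_of_mul_eq_one_right R.sq
    rw [show d * (o * d * o⁻¹) = d * o * d⁻¹ * o⁻¹ by rw [hd']; group, hd] at h1
    have h2 := inv_mem h1
    rw [mul_inv_rev, inv_inv] at h2
    exact mem_of_sq_mem hm hom h2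
  set O := oddCore (↥(jCent d e) ⧸ jEl d e) with hOdef
  set π := QuotientGroup.mk' (jEl d e) with hπ
  haveI : O.Normal := pPrimeCore_normal 2 _
  set fq : ↥(jCent d e) ⧸ jEl d e := π ⟨f, common_mem he hf hfe⟩ with hfq
  have hff : f * f = 1 := R.sq_of_mem hf.1
  let φ : ↥O →* ↥O := (MulAut.conjNormal fq).toMonoidHom
  have hinv : Function.Involutive φ := fun x => Subtype.ext (by
    have : fq * fq = 1 := by rw [hfq, ← map_mul]; exact (congrArg π (Subtype.ext hff)).trans (map_one π)
    show fq * (fq * (x : _) * fq⁻¹) * fq⁻¹ = x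
    rw [show fq * (fq * (x : ↥(jCent d e) ⧸ jEl d e) * fq⁻¹) * fq⁻¹ = (fq * fq) * x * (fq * fq)⁻¹ by group, this]
    group)
  have hjsq : (⟨d * e, Subgroup.mem_centralizer_singleton_iff.2 rfl⟩ : ↥(jCent d e)) *
      ⟨d * e, Subgroup.mem_centralizer_singleton_iff.2 rfl⟩ = 1 := Subtype.ext (R.j_sq he)
  -- an equation modulo the centre between elements of odd order
  have lift : ∀ {a b : ↥(jCent d e)} {n : ℕ}, Odd n → (a : G) ^ n = 1 → (b : G) ^ n = 1 → π a = π b →
      (a : G) = b := by
    intro a b n hn ha hb hab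
    rcases mul_self_zpowers hjsq (QuotientGroup.eq.1 hab.symm) with h | h
    · exact (congrArg Subtype.val (inv_mul_eq_one.1 h)).symm
    · exact eq_of_odd hn ha hb (R.j_sq he) (Subgroup.mem_centralizer_singleton_iff.1 b.2)
        (congrArg Subtype.val (inv_mul_eq_iff_eq_mul.1 h))
  have hfpf : MonoidHom.FixedPointFree φ := by
    intro x hx
    obtain ⟨k₀, hk₀⟩ := QuotientGroup.mk'_surjective (jEl d e) (x : ↥(jCent d e) ⧸ jEl d e)
    obtain ⟨n, hn, hk₀n, -⟩ := R.odd_power (R.j_sq he) (x := (k₀ : G)) ((mem_kSub k₀.2).2 (hk₀ ▸ x.2))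
    obtain ⟨t, rfl⟩ := hn
    have hxn : (x : ↥(jCent d e) ⧸ jEl d e) ^ (2 * t + 1) = 1 := by
      rw [← hk₀, ← map_pow]
      refine (QuotientGroup.eq_one_iff _).2 ?_
      rcases hk₀n with h | h
      · rw [show k₀ ^ (2 * t + 1) = 1 from Subtype.ext (by rw [Subgroup.coe_pow]; exact h)]; exact one_mem _
      · rw [show k₀ ^ (2 * t + 1) = ⟨d * e, Subgroup.mem_centralizer_singleton_iff.2 rfl⟩ from
          Subtype.ext (by rw [Subgroup.coe_pow]; exact h)]
        exact Subgroup.mem_zpowers _
    set k : ↥(jCent d e) := k₀ ^ (2 * t + 1 + 1) with hkdef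
    have hkn : (k : G) ^ (2 * t + 1) = 1 := by
      rw [hkdef, Subgroup.coe_pow, ← pow_mul, mul_comm, pow_mul, show 2 * t + 1 + 1 = 2 * (t + 1) by ring, pow_mul,
        pow_two]
      rcases hk₀n with h | h
      · rw [h, one_mul, one_pow]
      · rw [h, R.j_sq he, one_pow]
    have hπk : π k = x := by rw [hkdef, map_pow, hk₀, pow_succ, hxn, one_mul]
    have h2 : f * (k : G) * f⁻¹ = k := by
      refine lift (a := ⟨f, common_mem he hf hfe⟩ * k * ⟨f, common_mem he hf hfe⟩⁻¹) (b := k) ⟨t, rfl⟩ ?_ hkn ?_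
      · show (f * (k : G) * f⁻¹) ^ (2 * t + 1) = 1
        rw [conj_pow, hkn, mul_one, mul_inv_cancel]
      · rw [map_mul, map_mul, map_inv, hπk]
        exact congrArg Subtype.val hx
    have hk1 : (k : G) = 1 := R.eq_one_of_commute he (R.link_comp hf) ((mem_kSub k.2).2 (hπk ▸ x.2)) ⟨t, rfl⟩ hkn
      (show (k : G) * f = f * k from (mul_inv_eq_iff_eq_mul.1 h2).symm)
    exact Subtype.ext (hπk.symm.trans ((congrArg π (Subtype.ext hk1)).trans (map_one π)))
  have hall := congrFun (hfpf.coe_eq_inv_of_involutive hinv) ⟨π ⟨o, hoj⟩, (mem_kSub hoj).1 hoK⟩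
  refine lift (a := ⟨f, common_mem he hf hfe⟩ * ⟨o, hoj⟩ * ⟨f, common_mem he hf hfe⟩⁻¹) (b := ⟨o, hoj⟩⁻¹) hm
    ?_ ?_ ?_
  · show (f * o * f⁻¹) ^ m = 1
    rw [conj_pow, hom, mul_one, mul_inv_cancel]
  · show o⁻¹ ^ m = 1
    rw [inv_pow, hom, inv_one]
  · rw [map_mul, map_mul, map_inv, map_inv]
    exact congrArg Subtype.val hall

/-- An element of odd order inverted by `d` and `e` is trivial. -/
theorem eq_one_of_inverted {o : G} {m : ℕ} (hm : Odd m) (hom : o ^ m = 1) (hd : d * o * d⁻¹ = o⁻¹)
    (hee : e * o * e⁻¹ = o⁻¹) : o = 1 := by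
  have step : ∀ {e g : G}, e ∈ link (conjugatesOf d) d → e * o * e⁻¹ = o⁻¹ → g ∈ link (conjugatesOf d) d →
      Commute g e → g * o * g⁻¹ = o⁻¹ := fun {e g} he h hg hge => R.inverted_common he hm hom hd h hg hge
  have hlink : ∀ g ∈ link (conjugatesOf d) d, g * o * g⁻¹ = o⁻¹ := by
    intro g hg
    obtain ⟨z, hz, hzv⟩ := exists_iso_perp_of R.hF ![R.vec he, R.vec hg] (by norm_num)
    obtain ⟨p, hp⟩ := U6.exists_pt R.hF hz
    obtain ⟨h, hh, rfl⟩ := R.exists_link hp
    have h1 : Commute h e := (R.commute_of_pts hh he hp (R.isPt_vec he)).2 (hzv 0)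
    have h2 : Commute h g := (R.commute_of_pts hh hg hp (R.isPt_vec hg)).2 (hzv 1)
    exact step hh (step he hee hh h1) hg h2.symm
  let Sg : G → Bool → Prop := fun c s => c * o * c⁻¹ = if s then o⁻¹ else o
  have smul' : ∀ {a b : G} {s t : Bool}, Sg a s → Sg b t → Sg (a * b) (xor s t) := by
    intro a b s t ha hb
    show a * b * o * (a * b)⁻¹ = _
    rw [show a * b * o * (a * b)⁻¹ = a * (b * o * b⁻¹) * a⁻¹ by group, hb]
    cases t <;> cases s <;> simp only [Bool.false_eq_true, if_false, if_true, Bool.xor_false, Bool.xor_true,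
      Bool.not_false, Bool.not_true, Sg] at ha ⊢
    · exact ha
    · exact ha
    · rw [show a * o⁻¹ * a⁻¹ = (a * o * a⁻¹)⁻¹ by group, ha]
    · rw [show a * o⁻¹ * a⁻¹ = (a * o * a⁻¹)⁻¹ by group, ha, inv_inv]
  have sinv : ∀ {a : G} {s : Bool}, Sg a s → Sg a⁻¹ s := by
    intro a s ha
    show a⁻¹ * o * a⁻¹⁻¹ = _
    cases s <;> simp only [Bool.false_eq_true, if_false, if_true, Sg] at ha ⊢
    · calc a⁻¹ * o * a⁻¹⁻¹ = a⁻¹ * (a * o * a⁻¹) * a := by rw [ha, inv_inv]
        _ = o := by group
    · calc a⁻¹ * o * a⁻¹⁻¹ = a⁻¹ * (a * o * a⁻¹)⁻¹ * a := by rw [ha, inv_inv, inv_inv]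
        _ = o⁻¹ := by group
  let X : Subgroup G :=
    { carrier := {c | ∃ s, Sg c s}
      one_mem' := ⟨false, by show 1 * o * (1 : G)⁻¹ = o; group⟩
      mul_mem' := fun ⟨s, ha⟩ ⟨t, hb⟩ => ⟨_, smul' ha hb⟩
      inv_mem' := fun ⟨s, ha⟩ => ⟨s, sinv ha⟩ }
  have hX : Subgroup.centralizer ({d} : Set G) ≤ X := by
    rw [← R.closure_link, Subgroup.closure_le]
    exact fun g hg => ⟨true, hlink g hg⟩
  have hd' : (⟨d, Subgroup.mem_centralizer_singleton_iff.2 rfl⟩ : ↥(Subgroup.centralizer ({d} : Set G))) ∈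
      commutator ↥(Subgroup.centralizer ({d} : Set G)) := R.perf ▸ Subgroup.mem_top _
  have hle : commutator ↥(Subgroup.centralizer ({d} : Set G)) ≤
      (Subgroup.centralizer ({o} : Set G)).subgroupOf (Subgroup.centralizer ({d} : Set G)) := by
    rw [_root_.commutator_def, Subgroup.commutator_le]
    intro a _ b _
    rw [Subgroup.mem_subgroupOf, Subgroup.mem_centralizer_singleton_iff]
    refine mul_inv_eq_iff_eq_mul.1 ?_
    obtain ⟨s, ha⟩ := hX a.2
    obtain ⟨t, hb⟩ := hX b.2
    have hc := smul' (smul' (smul' ha hb) (sinv ha)) (sinv hb)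
    rw [show xor (xor (xor s t) s) t = false by cases s <;> cases t <;> rfl] at hc
    exact hc
  have hco : Commute d o := Subgroup.mem_centralizer_singleton_iff.1 (Subgroup.mem_subgroupOf.1 (hle hd'))
  rw [hco.eq, mul_inv_cancel_right] at hd
  have h2 : o * o = 1 := by
    nth_rewrite 2 [hd]
    exact mul_inv_cancel o
  exact mem_of_sq_mem (H := ⊥) hm hom (by rw [Subgroup.mem_bot]; exact h2)

/-- The centraliser of the product of a commuting pair lies in the group of the component. -/
theorem jCent_le : jCent d e ≤ compGroup d := by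
  intro g hg
  set f := g * d * g⁻¹ with hf
  have hK : d * f ∈ kSub d e := R.mul_conj_mem he hg
  have hfD : f ∈ conjugatesOf d := isConj_iff.2 ⟨g, rfl⟩
  have hff : f * f = 1 := R.sq_of_mem hfD
  obtain ⟨n, ⟨t, rfl⟩, hn, -⟩ := R.odd_power (R.j_sq he) hK
  set o := (d * f) ^ (2 * t + 1 + 1) with ho
  have hon : o ^ (2 * t + 1) = 1 := by
    rw [ho, ← pow_mul, mul_comm, pow_mul, show 2 * t + 1 + 1 = 2 * (t + 1) by ring, pow_mul, pow_two]
    rcases hn with h | h
    · rw [h, one_mul, one_pow]
    · rw [h, R.j_sq he, one_pow]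
  have hdinv : d * o * d⁻¹ = o⁻¹ := by
    rw [ho, ← conj_pow, ← inv_pow, mul_inv_rev, inv_eq_of_mul_eq_one_right R.sq, inv_eq_of_mul_eq_one_right hff,
      ← mul_assoc, R.sq, one_mul]
  have hoj : Commute o (d * e) := by
    have : Commute (d * f) (d * e) := Subgroup.mem_centralizer_singleton_iff.1 (kSub_le d e hK)
    exact this.pow_left _
  have heinv : e * o * e⁻¹ = o⁻¹ := by
    calc e * o * e⁻¹ = d⁻¹ * (d * e * o * (d * e)⁻¹) * d := by group
      _ = d * o * d⁻¹ := by rw [← hoj.eq, mul_inv_cancel_right, inv_eq_of_mul_eq_one_right R.sq]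
      _ = o⁻¹ := hdinv
  have ho1 := R.eq_one_of_inverted he ⟨t, rfl⟩ hon hdinv heinv
  have hfix : f = d ∨ f = e := by
    have h1 : d * f = 1 ∨ d * f = d * e := by
      have : (d * f) ^ (2 * t + 1) * (d * f) = 1 := by rw [← pow_succ]; exact ho1
      rcases hn with h | h <;> rw [h] at this
      · exact Or.inl (by rwa [one_mul] at this)
      · exact Or.inr (mul_left_cancel (this.trans (R.j_sq he).symm))
    rcases h1 with h | h
    · exact Or.inl (mul_left_cancel (h.trans R.sq.symm))
    · exact Or.inr (mul_left_cancel h)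
  refine R.mem_compGroup ?_
  rw [← hf]
  rcases hfix with h | h <;> rw [h]
  · exact self_mem_comp d
  · exact R.link_comp he

end Rec

end CfsgLib.U6Recog
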